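import Cfsg.Agent.ThreeSizes.Comp
import Cfsg.Agent.S4033
import Cfsg.Agent.PCompl.ClassSize

/-!
If every prime other than `p` occurs in the centralizer of every non-central `p`-regular element,
and these centralizers have their `p`-regular elements central, then all of them are conjugate, so
the `p`-regular elements have two class sizes and `G` is solvable.
-/

set_option autoImplicit false

open scoped commutatorElement

namespace CfsgLib.ThreeSizes

open CfsgLib.TwoSizes (cen mem_cen center_le_cen cen_eq_top cen_mul_le le_of_forall_pElt)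
open CfsgLib.TwoRegular (Reg IsEl part mem_part_of part_le)

/-- Every prime other than `p` of `G/Z(G)` occurs in every relevant centralizer. -/
def Spread (p : ℕ) (G : Type*) [Group G] : Prop :=
  ∀ ⦃t : ℕ⦄, t.Prime → t.Coprime p → (∃ a : G, IsEl t a ∧ a ∉ Subgroup.center G) →
    ∀ ⦃w : G⦄, Reg p w → ∃ a ∈ cen w, IsEl t a ∧ a ∉ Subgroup.center G

variable {G : Type*} [Group G]

theorem cen_inv (x : G) : cen x⁻¹ = cen x := by
  ext y
  rw [mem_cen, mem_cen]
  exact ⟨fun h => by simpa using (show Commute y x⁻¹ from h).inv_right.eq,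
    fun h => ((show Commute y x from h).inv_right).eq⟩

variable [Finite G]

theorem mem_of_coprime_index {A : Subgroup G} [A.Normal] {a : G}
    (h : (orderOf a).Coprime A.index) : a ∈ A := by
  obtain ⟨k, hk⟩ := exists_pow_eq_self_of_coprime (x := a) (n := A.index) h.symm
  exact hk ▸ pow_mem (Subgroup.pow_index_mem A a) k

/-- A real element provides an inverting element of the normalizer of its centralizer. -/
theorem exists_invRep_of_real {x g : G} (hx : x ∉ Subgroup.center G)
    (hx2 : (orderOf x).Coprime 2) (hg : g * x * g⁻¹ = x⁻¹) : ∃ ι, InvRep x ι := by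
  refine exists_invRep (g := g) (mem_nrm_of (by rw [hg, cen_inv])) (fun hgC => hx ?_) (mem_cen.2 ?_)
  · rw [mem_cen.1 hgC, mul_inv_cancel_right] at hg
    have h1 : orderOf x ∣ 2 := orderOf_dvd_of_pow_eq_one
      (by rw [pow_two]; nth_rewrite 1 [hg]; exact inv_mul_cancel x)
    rw [orderOf_eq_one_iff.1 (Nat.eq_one_of_dvd_coprimes hx2 dvd_rfl h1)]
    exact one_mem _
  · have h2 : g * g * x * (g * g)⁻¹ = x := by
      rw [show g * g * x * (g * g)⁻¹ = g * (g * x * g⁻¹) * g⁻¹ by group, hg,
        show g * x⁻¹ * g⁻¹ = (g * x * g⁻¹)⁻¹ by group, hg, inv_inv]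
    exact mul_inv_eq_iff_eq_mul.1 h2

/-- There is a relevant centralizer with a good prime. -/
theorem Comp.exists_good_prime {p : ℕ} (hp : p.Prime) (h : Comp p G) (hs : Spread p G)
    (hns : ¬ Group.IsSolvable G) :
    ∃ w : G, Reg p w ∧ ∃ t : ℕ, t.Prime ∧ t.Coprime p ∧ Good t w ∧
      ∃ a ∈ cen w, IsEl t a ∧ a ∉ Subgroup.center G := by
  by_cases hp2 : p = 2
  · subst hp2
    obtain ⟨x, g, hxZ, hx2, hg⟩ := exists_real hns
    obtain ⟨ι, hι⟩ := exists_invRep_of_real hxZ hx2 hg
    have hw : Reg 2 x := ⟨hx2, hxZ⟩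
    obtain ⟨t, ht, ht2, -, hta⟩ := exists_third hns Nat.prime_two Nat.prime_two
    obtain ⟨u, hu, hu2, hut, hua⟩ := exists_third hns Nat.prime_two ht
    have htp : t.Coprime 2 := (Nat.coprime_primes ht Nat.prime_two).2 ht2
    have hup : u.Coprime 2 := (Nat.coprime_primes hu Nat.prime_two).2 hu2
    exact ⟨x, hw, t, ht, htp, h.good_of_invRep hw hι ht hu htp hup hut.symm ht2
      (hs ht htp hta hw) (hs hu hup hua hw), hs ht htp hta hw⟩
  · obtain ⟨a, ha, haZ⟩ := exists_two_el hns
    have h2p : Nat.Coprime 2 p := (Nat.coprime_primes Nat.prime_two hp).2 (Ne.symm hp2)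
    have hw := reg_of_el ha haZ h2p
    obtain ⟨t, ht, ht2, htp, hta⟩ := exists_third hns Nat.prime_two hp
    have htc : t.Coprime p := (Nat.coprime_primes ht hp).2 htp
    exact ⟨a, hw, h.exists_good hw h2p ⟨a, mem_cen.2 rfl, ha, haZ⟩
      ⟨t, ht, ht2, htc, hs ht htc hta hw⟩⟩

/-- **The structure theorem**: then `G` is solvable. -/
theorem isSolvable_of_comp {p : ℕ} (hp : p.Prime) (h : Comp p G) (hs : Spread p G) :
    Group.IsSolvable G := by
  by_contra hns
  obtain ⟨w, hw, t, ht, htp, hgood, hta⟩ := h.exists_good_prime hp hs hns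
  obtain ⟨a, haC, hat, haZ⟩ := hta
  have hsize : ∀ v : G, Reg p v → (cen v).index = (cen w).index := by
    intro v hv
    obtain ⟨g, hg⟩ := h.exists_conj_of_good hw hv ht htp hgood ⟨a, haC, hat, haZ⟩
      (hs ht htp ⟨a, hat, haZ⟩ hv)
    have hcard : Nat.card (cen v) = Nat.card (cen w) := by rw [← hg, card_cen_conj]
    have h1 := (cen v).card_mul_index
    rw [← (cen w).card_mul_index, hcard] at h1
    exact Nat.eq_of_mul_eq_mul_left Nat.card_pos h1
  have hm1 : (cen w).index ≠ 1 := fun e => hw.2 <| Subgroup.mem_center_iff.2 fun g =>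
    mem_cen.1 ((Subgroup.index_eq_one.1 e).ge (Subgroup.mem_top g))
  have hrange : Set.range (fun x : {x : G // (orderOf x).Coprime p} =>
      (ConjClasses.mk (x : G)).carrier.ncard) = {1, (cen w).index} := by
    ext n
    simp only [Set.mem_range, Set.mem_insert_iff, Set.mem_singleton_iff]
    constructor
    · rintro ⟨⟨x, hx⟩, rfl⟩
      rw [CfsgLib.PCompl.carrier_ncard]
      by_cases hxZ : x ∈ Subgroup.center G
      · exact Or.inl (Subgroup.index_eq_one.2 (cen_eq_top hxZ))
      · exact Or.inr (hsize x ⟨hx, hxZ⟩)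
    · rintro (rfl | rfl)
      · refine ⟨⟨1, by simp⟩, ?_⟩
        rw [CfsgLib.PCompl.carrier_ncard]
        exact Subgroup.index_eq_one.2 (cen_eq_top (one_mem _))
      · exact ⟨⟨w, hw.1⟩, CfsgLib.PCompl.carrier_ncard w⟩
  rcases Cfsg.Agent.S4033.result hp (by rw [hrange]; exact Set.ncard_pair hm1.symm) with
    ⟨H, hab, hH1, hH2⟩ | ⟨q, hq, P, Q, A, -, hAZ, hcard, hnor, hinf, hsup⟩
  · exact hns (CfsgLib.PCompl.RegPow.isSolvable hp _ G rfl
      (CfsgLib.PCompl.regPow_of_commutative_pCompl hp H hab ⟨hH1, hH2⟩))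
  · haveI := hnor
    haveI : Fact p.Prime := ⟨hp⟩
    haveI : A.Normal := ⟨fun x hx g => by
      rw [Subgroup.mem_center_iff.1 (hAZ hx) g, mul_inv_cancel_right]; exact hx⟩
    have hidx : A.index = Nat.card P * Nat.card Q := by
      rw [← hcard]
      refine (Subgroup.isComplement'_of_disjoint_and_mul_eq_univ (disjoint_iff.2 hinf) ?_).index_eq_card
      rw [← Subgroup.normal_mul, hsup, Subgroup.coe_top]
    refine hns (isSolvable_of_two_primes hp hq.out fun r hr x hx hxZ => ?_)
    by_contra hne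
    push Not at hne
    refine hxZ (hAZ (mem_of_coprime_index (Nat.Coprime.symm ?_)))
    rw [hidx, P.card_eq_multiplicity, Q.card_eq_multiplicity]
    obtain ⟨j, hj⟩ := isEl_orderOf hr hx
    rw [hj]
    exact ((((Nat.coprime_primes hp hr).2 hne.1.symm).pow _ _).mul_left
      (((Nat.coprime_primes hq.out hr).2 hne.2.symm).pow _ _))

end CfsgLib.ThreeSizes
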