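import Cfsg.Agent.ThreeSizes.Star

/-!
Two centralizer orders `s < b` of non-central elements. If centralizers are nested, or one of them
involves a single prime modulo the centre, the structure theorem applies.
-/

set_option autoImplicit false

open scoped commutatorElement

namespace CfsgLib.ThreeSizes

open CfsgLib.TwoSizes (cen mem_cen center_le_cen cen_eq_top cen_mul_le le_of_forall_pElt)
open CfsgLib.TwoRegular (Reg IsEl part mem_part_of part_le)

/-- The centralizers of non-central elements have orders `b` and `s`. -/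
structure ThreeHyp (G : Type*) [Group G] (b s : ℕ) : Prop where
  lt : s < b
  sizes : ∀ x : G, x ∉ Subgroup.center G → Nat.card (cen x) = b ∨ Nat.card (cen x) = s
  big : ∃ x : G, x ∉ Subgroup.center G ∧ Nat.card (cen x) = b
  small : ∃ x : G, x ∉ Subgroup.center G ∧ Nat.card (cen x) = s

variable {G : Type*} [Group G]

/-- The centralizer of `y` properly contains that of another non-central element. -/
def Nest (y : G) : Prop := ∃ x : G, x ∉ Subgroup.center G ∧ cen x < cen y

variable [Finite G] {b s : ℕ}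

theorem ThreeHyp.card_of_nest (H : ThreeHyp G b s) {x y : G} (hx : x ∉ Subgroup.center G)
    (hy : y ∉ Subgroup.center G) (hlt : cen x < cen y) :
    Nat.card (cen x) = s ∧ Nat.card (cen y) = b := by
  have h : Nat.card (cen x) < Nat.card (cen y) := by
    by_contra hge
    exact hlt.ne (Subgroup.eq_of_le_of_card_ge hlt.le (not_lt.1 hge))
  have := H.lt
  rcases H.sizes x hx with e1 | e1 <;> rcases H.sizes y hy with e2 | e2 <;> omega

omit [Finite G] in
/-- Without nesting, coprime commuting elements are central in the centralizer. -/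
theorem le_cen_of_not_nest {v a : G} (hnest : ¬ Nest v) (hvZ : v ∉ Subgroup.center G)
    (ha : a ∈ cen v) (hco : (orderOf v).Coprime (orderOf a)) : cen v ≤ cen a := by
  have hc : Commute v a := (show Commute a v from mem_cen.1 ha).symm
  have heq := cen_mul_eq hc hco
  have hle : cen (v * a) ≤ cen v := heq ▸ inf_le_left
  rcases hle.lt_or_eq with hlt | he
  · exact absurd ⟨v * a, notMem_center_of_cen_le hvZ hle, hlt⟩ hnest
  · rw [← he, heq]; exact inf_le_right

/-- An element all of whose primary parts commute with `c` does. -/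
theorem commute_of_primary {p : ℕ} (hp : p.Prime) {a c : G} (hap : (orderOf a).Coprime p)
    (h : ∀ t : ℕ, t.Prime → t ≠ p → ∀ z : G, z ∈ Subgroup.zpowers a → IsEl t z → Commute z c) :
    Commute a c := by
  refine (mem_cen.1 (le_of_forall_pElt (K := Subgroup.zpowers a) (H := cen c) ?_
    (Subgroup.mem_zpowers a)))
  intro t ht z hz hzt
  by_cases htp : t = p
  · subst htp
    obtain ⟨j, hj⟩ := isEl_orderOf ht hzt
    have h1 : (orderOf z).Coprime t := hap.coprime_dvd_left (orderOf_dvd_of_mem_zpowers hz)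
    rw [hj] at h1
    rcases Nat.eq_zero_or_pos j with rfl | hj0
    · rw [(orderOf_eq_one_iff.1 (by simpa using hj) : z = 1)]; exact one_mem _
    · exact absurd ((Nat.coprime_pow_left_iff hj0 _ _).1 h1)
        (by simp [ht.ne_one])
  · exact mem_cen.2 (h t ht htp z hz hzt).eq

/-- **The structure of the larger centralizer in a nested pair.** -/
theorem ThreeHyp.nest_structure (H : ThreeHyp G b s) {r : ℕ} (hr : r.Prime) {y : G}
    (hy : IsEl r y) (hyZ : y ∉ Subgroup.center G) (hnest : Nest y) :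
    (∃ j, b = s * r ^ j) ∨ ∃ q : ℕ, q.Prime ∧ q ≠ r ∧
      (∀ t : ℕ, t.Prime → t ∣ b / s → t = r ∨ t = q) ∧
      ∀ t : ℕ, t.Prime → t ≠ r → t ≠ q → ∀ a ∈ cen y, IsEl t a → ∀ c ∈ cen y, Commute a c := by
  obtain ⟨x, hxZ, hlt⟩ := hnest
  obtain ⟨hxc, hyc⟩ := H.card_of_nest hxZ hyZ hlt
  have hsb : s ∣ b := hxc ▸ hyc ▸ Subgroup.card_dvd_of_le hlt.le
  obtain ⟨k, hk⟩ := hsb
  have hs0 : 0 < s := hxc ▸ Nat.card_pos
  have hk0 : k ≠ 0 := by rintro rfl; have := H.lt; simp at hk; omega
  have hk1 : k ≠ 1 := by rintro rfl; have := H.lt; omega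
  have hdiv : b / s = k := by rw [hk, Nat.mul_div_cancel_left _ hs0]
  set B := cen y with hB
  -- class sizes of `r`-regular elements of `B`
  have hidx : ∀ z : B, (orderOf z).Coprime r →
      (Subgroup.centralizer ({z} : Set B)).index = 1 ∨
        (Subgroup.centralizer ({z} : Set B)).index = k := by
    intro z hz
    have hzc : (orderOf y).Coprime (orderOf (z : G)) := by
      obtain ⟨j, hj⟩ := isEl_orderOf hr hy
      rw [hj, Subgroup.orderOf_coe]
      exact (hz.symm.pow_left j)
    have heq := cen_mul_eq (show Commute y (z : G) from (mem_cen.1 z.2).symm) hzc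
    have hmap : (Subgroup.centralizer ({z} : Set B)).map B.subtype = cen (y * (z : G)) := by
      rw [heq]
      ext g
      constructor
      · rintro ⟨g, hg, rfl⟩
        exact ⟨g.2, mem_cen.2 (congrArg Subtype.val (Subgroup.mem_centralizer_singleton_iff.1 hg))⟩
      · rintro ⟨hg1, hg2⟩
        exact ⟨⟨g, hg1⟩, Subgroup.mem_centralizer_singleton_iff.2 (Subtype.ext (mem_cen.1 hg2)),
          rfl⟩
    have hcard : Nat.card (Subgroup.centralizer ({z} : Set B)) = Nat.card (cen (y * (z : G))) := by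
      rw [← hmap, Subgroup.card_map_of_injective B.subtype_injective]
    have h1 := (Subgroup.centralizer ({z} : Set B)).card_mul_index
    rw [hcard, hyc] at h1
    rcases H.sizes _ (notMem_center_of_cen_le hyZ (heq ▸ inf_le_left)) with e | e
    · left
      rw [e] at h1
      exact Nat.eq_of_mul_eq_mul_left (lt_trans hs0 H.lt) (h1.trans (mul_one b).symm)
    · right
      rw [e] at h1
      exact Nat.eq_of_mul_eq_mul_left hs0 (h1.trans hk)
  by_cases hone : ∀ z : B, (orderOf z).Coprime r →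
      (Subgroup.centralizer ({z} : Set B)).index = 1
  · -- all `r`-regular elements are central in `B`
    left
    have honly : ∀ t : ℕ, t.Prime → t ∣ k → t = r := by
      intro t ht htk
      by_contra htr
      haveI : Fact t.Prime := ⟨ht⟩
      obtain ⟨P, hPle, hP, hPc⟩ := TwoRegular.exists_sylow_card (r := t) B
      have hPx : P ≤ cen x := by
        intro a ha
        have hat := IsEl.of_mem_pGroup hP ha
        have hc := hone ⟨a, hPle ha⟩ (by
          rw [← Subgroup.orderOf_coe]; exact hat.coprime ((Nat.coprime_primes ht hr).2 htr))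
        have hxB : x ∈ B := hlt.le (mem_cen.2 rfl)
        have := (Subgroup.index_eq_one.1 hc).ge (Subgroup.mem_top (⟨x, hxB⟩ : B))
        exact mem_cen.2
          (congrArg Subtype.val (Subgroup.mem_centralizer_singleton_iff.1 this)).symm
      have h1 := TwoRegular.card_le_of_pGroup hP hPx
      rw [hPc, hxc, hyc, hk, Nat.pow_le_pow_iff_right ht.one_lt,
        Nat.factorization_mul hs0.ne' hk0] at h1
      simp only [Finsupp.coe_add, Pi.add_apply] at h1
      have := ht.factorization_pos_of_dvd hk0 htk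
      omega
    exact ⟨_, hk.trans (congrArg (s * ·)
      (Nat.eq_prime_pow_of_unique_prime_dvd hk0 fun {d} hd hdn => honly d hd hdn))⟩
  · push Not at hone
    obtain ⟨z₀, hz₀, hz₀i⟩ := hone
    have hz₀k := (hidx z₀ hz₀).resolve_left hz₀i
    have hrange : Set.range (fun x : {x : B // (orderOf x).Coprime r} =>
        (ConjClasses.mk (x : B)).carrier.ncard) = {1, k} := by
      ext n
      simp only [Set.mem_range, Set.mem_insert_iff, Set.mem_singleton_iff]
      constructor
      · rintro ⟨⟨x, hx⟩, rfl⟩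
        rw [CfsgLib.PCompl.carrier_ncard]
        exact hidx x hx
      · rintro (rfl | rfl)
        · refine ⟨⟨1, by simp⟩, ?_⟩
          rw [CfsgLib.PCompl.carrier_ncard]
          exact Subgroup.index_eq_one.2 (cen_eq_top (one_mem _))
        · exact ⟨⟨z₀, hz₀⟩, (CfsgLib.PCompl.carrier_ncard z₀).trans hz₀k⟩
    rcases Cfsg.Agent.S4033.result hr (by rw [hrange]; exact Set.ncard_pair hk1.symm) with
      ⟨U, hab, hU1, hU2⟩ | ⟨q, hq, P, Q, A, hqr, hAZ, hcard, hnor, hinf, hsup⟩
    · left
      obtain ⟨j, hj⟩ := CfsgLib.PCompl.regPow_of_commutative_pCompl hr U hab ⟨hU1, hU2⟩ z₀ hz₀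
      exact ⟨j, by rw [hk, ← hz₀k, hj]⟩
    · right
      haveI := hnor
      haveI : Fact r.Prime := ⟨hr⟩
      haveI : A.Normal := ⟨fun a ha g => by
        rw [Subgroup.mem_center_iff.1 (hAZ ha) g, mul_inv_cancel_right]; exact ha⟩
      have hAi : A.index = Nat.card P * Nat.card Q := by
        rw [← hcard]
        refine (Subgroup.isComplement'_of_disjoint_and_mul_eq_univ (disjoint_iff.2 hinf)
          ?_).index_eq_card
        rw [← Subgroup.normal_mul, hsup, Subgroup.coe_top]
      rw [P.card_eq_multiplicity, Q.card_eq_multiplicity] at hAi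
      refine ⟨q, hq.out, hqr, fun t ht htk => ?_, fun t ht htr htq a ha hat c hc => ?_⟩
      · rw [hdiv, ← hz₀k] at htk
        have h1 : t ∣ A.index := htk.trans (Subgroup.index_dvd_of_le fun a ha =>
          Subgroup.mem_centralizer_singleton_iff.2 (Subgroup.mem_center_iff.1 (hAZ ha) z₀).symm)
        rw [hAi] at h1
        exact (ht.dvd_mul.1 h1).imp
          (fun h => (Nat.prime_dvd_prime_iff_eq ht hr).1 (ht.dvd_of_dvd_pow h))
          (fun h => (Nat.prime_dvd_prime_iff_eq ht hq.out).1 (ht.dvd_of_dvd_pow h))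
      · have hmem : (⟨a, ha⟩ : B) ∈ A := by
          refine mem_of_coprime_index ?_
          rw [← Subgroup.orderOf_coe, hAi]
          obtain ⟨j, hj⟩ := isEl_orderOf ht hat
          change (orderOf a).Coprime _
          rw [hj]
          exact (((Nat.coprime_primes ht hr).2 htr).pow _ _).mul_right
            (((Nat.coprime_primes ht hq.out).2 htq).pow _ _)
        exact congrArg Subtype.val (Subgroup.mem_center_iff.1 (hAZ hmem) ⟨c, hc⟩).symm

/-- Nested centralizers give the hypotheses of the structure theorem. -/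
theorem ThreeHyp.comp_of_nest (H : ThreeHyp G b s) (hns : ¬ Group.IsSolvable G)
    (hN : ∃ y : G, y ∉ Subgroup.center G ∧ Nest y) :
    ∃ p : ℕ, p.Prime ∧ Comp p G ∧ Spread p G := by
  obtain ⟨y₀, hy₀Z, x₀, hx₀Z, hlt₀⟩ := hN
  obtain ⟨hx₀c, hy₀c⟩ := H.card_of_nest hx₀Z hy₀Z hlt₀
  obtain ⟨k, hk⟩ : s ∣ b := hx₀c ▸ hy₀c ▸ Subgroup.card_dvd_of_le hlt₀.le
  have hs0 : 0 < s := hx₀c ▸ Nat.card_pos
  have hk0 : k ≠ 0 := by rintro rfl; have := H.lt; simp at hk; omega
  have hk1 : k ≠ 1 := by rintro rfl; have := H.lt; omega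
  have hdiv : b / s = k := by rw [hk, Nat.mul_div_cancel_left _ hs0]
  have htrans : ∀ t : ℕ, t.Prime → ¬ t ∣ k → (∃ a : G, IsEl t a ∧ a ∉ Subgroup.center G) →
      ∀ w : G, w ∉ Subgroup.center G → ∃ a ∈ cen w, IsEl t a ∧ a ∉ Subgroup.center G := by
    rintro t ht htk ⟨v, hv, hvZ⟩ w hwZ
    have hbs : b.factorization t = s.factorization t := by
      rw [hk, Nat.factorization_mul hs0.ne' hk0]
      simp [Nat.factorization_eq_zero_of_not_dvd htk]
    refine el_transfer ht hv hvZ (le_of_eq ?_)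
    rcases H.sizes v hvZ with e | e <;> rcases H.sizes w hwZ with e' | e' <;> rw [e, e'] <;> omega
  -- centralizers containing that of a nested one
  have hup : ∀ v a : G, v ∉ Subgroup.center G → a ∉ Subgroup.center G → Nest v →
      cen v ≤ cen a → cen a = cen v := by
    intro v a hv ha hn hle
    obtain ⟨x, hx, hlt⟩ := hn
    refine (Subgroup.eq_of_le_of_card_ge hle ?_).symm
    rw [(H.card_of_nest hx hv hlt).2]
    have := H.lt
    rcases H.sizes a ha with e | e <;> omega
  obtain ⟨p, hp, hpk⟩ := Nat.exists_prime_and_dvd hk1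
  have hpow : ∀ (r : ℕ) (j : ℕ), b = s * r ^ j → r.Prime → ∀ t : ℕ, t.Prime → t ∣ k → t = r := by
    intro r j hj hr t ht htk
    rw [hk] at hj
    rw [Nat.eq_of_mul_eq_mul_left hs0 hj] at htk
    exact (Nat.prime_dvd_prime_iff_eq ht hr).1 (ht.dvd_of_dvd_pow htk)
  by_cases hq : ∃ q : ℕ, q.Prime ∧ q ∣ k ∧ q ≠ p
  · exfalso
    obtain ⟨q, hq, hqk, hqp⟩ := hq
    -- a nested primary element
    have hnest : ∀ r : ℕ, r.Prime → ∀ v : G, IsEl r v → v ∉ Subgroup.center G → Nest v →
        (r = p ∨ r = q) ∧ ∀ t : ℕ, t.Prime → t ≠ p → t ≠ q →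
          ∀ a ∈ cen v, IsEl t a → ∀ c ∈ cen v, Commute a c := by
      intro r hr v hv hvZ hn
      rcases H.nest_structure hr hv hvZ hn with ⟨j, hj⟩ | ⟨q', hq', hq'r, hsub, hcen⟩
      · exact absurd ((hpow r j hj hr q hq hqk).trans (hpow r j hj hr p hp hpk).symm) hqp
      · rw [hdiv] at hsub
        rcases hsub p hp hpk with e | e <;> rcases hsub q hq hqk with e' | e'
        · exact absurd (e'.trans e.symm) hqp
        · subst e e'
          exact ⟨Or.inl rfl, hcen⟩
        · subst e e'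
          exact ⟨Or.inr rfl, fun t ht h1 h2 => hcen t ht h2 h1⟩
        · exact absurd (e'.trans e.symm) hqp
    obtain ⟨t, ht, htp, htq, hta⟩ := exists_third hns hp hq
    obtain ⟨r, hr, v, hv, hvZ, hle, -⟩ := exists_primary hy₀Z
    have hvn : Nest v := ⟨x₀, hx₀Z, lt_of_lt_of_le hlt₀ hle⟩
    have htk : ¬ t ∣ k := by
      intro htk
      rcases H.nest_structure hr hv hvZ hvn with ⟨j, hj⟩ | ⟨q', hq', hq'r, hsub, -⟩
      · exact hqp ((hpow r j hj hr q hq hqk).trans (hpow r j hj hr p hp hpk).symm)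
      · rw [hdiv] at hsub
        rcases hsub t ht htk with e | e <;> rcases hsub p hp hpk with e1 | e1 <;>
          rcases hsub q hq hqk with e2 | e2 <;> omega
    obtain ⟨a, haC, hat, haZ⟩ := htrans t ht htk hta v hvZ
    have hca : cen v ≤ cen a := fun c hc =>
      mem_cen.2 ((hnest r hr v hv hvZ hvn).2 t ht htp htq a haC hat c hc).symm.eq
    have han : Nest a := ⟨x₀, hx₀Z, lt_of_lt_of_le (lt_of_lt_of_le hlt₀ hle) hca⟩
    rcases (hnest t ht a hat haZ han).1 with e | e
    · exact htp e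
    · exact htq e
  · push Not at hq
    have hspread : ∀ t : ℕ, t.Prime → t ≠ p → (∃ a : G, IsEl t a ∧ a ∉ Subgroup.center G) →
        ∀ w : G, w ∉ Subgroup.center G → ∃ a ∈ cen w, IsEl t a ∧ a ∉ Subgroup.center G :=
      fun t ht htp => htrans t ht fun hd => htp (hq t ht hd)
    have hnest : ∀ r : ℕ, r.Prime → r ≠ p → ∀ v : G, IsEl r v → v ∉ Subgroup.center G → Nest v →
        ∀ t : ℕ, t.Prime → t ≠ p → ∀ a ∈ cen v, IsEl t a → ∀ c ∈ cen v, Commute a c := by
      have hstep : ∀ r : ℕ, r.Prime → r ≠ p → ∀ v : G, IsEl r v → v ∉ Subgroup.center G →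
          Nest v → ∀ t : ℕ, t.Prime → t ≠ p → t ≠ r →
            ∀ a ∈ cen v, IsEl t a → ∀ c ∈ cen v, Commute a c := by
        intro r hr hrp v hv hvZ hn
        rcases H.nest_structure hr hv hvZ hn with ⟨j, hj⟩ | ⟨q', hq', hq'r, hsub, hcen⟩
        · exact absurd (hpow r j hj hr p hp hpk).symm hrp
        · rw [hdiv] at hsub
          rcases hsub p hp hpk with e | e
          · exact absurd e.symm hrp
          · subst e
            exact fun t ht h1 h2 => hcen t ht h2 h1
      intro r hr hrp v hv hvZ hn t ht htp a ha hat c hc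
      by_cases htr : t = r
      · subst htr
        obtain ⟨u, hu, hut, hup', hua⟩ := exists_third hns hr hp
        obtain ⟨a', ha'C, ha'u, ha'Z⟩ := hspread u hu hup' hua v hvZ
        have hle : cen v ≤ cen a' := fun d hd =>
          mem_cen.2 (hstep t hr hrp v hv hvZ hn u hu hup' hut a' ha'C ha'u d hd).symm.eq
        have he := hup v a' hvZ ha'Z hn hle
        have hn' : Nest a' := by obtain ⟨x, hx, hlt⟩ := hn; exact ⟨x, hx, he ▸ hlt⟩
        exact hstep u hu hup' a' ha'u ha'Z hn' t hr hrp hut.symm a (he ▸ ha) hat c (he ▸ hc)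
      · exact hstep r hr hrp v hv hvZ hn t ht htp htr a ha hat c hc
    have hprim : ∀ r : ℕ, r.Prime → r ≠ p → ∀ v : G, IsEl r v → v ∉ Subgroup.center G →
        ∀ t : ℕ, t.Prime → t ≠ p → ∀ a ∈ cen v, IsEl t a → ∀ c ∈ cen v, Commute a c := by
      intro r hr hrp v hv hvZ t ht htp a ha hat c hc
      by_cases hn : Nest v
      · exact hnest r hr hrp v hv hvZ hn t ht htp a ha hat c hc
      have hsmall : ∀ (u : ℕ) (v' a' : G), ¬ Nest v' → v' ∉ Subgroup.center G → u.Prime →
          ∀ r' : ℕ, r'.Prime → r' ≠ u → IsEl r' v' → IsEl u a' → a' ∈ cen v' →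
          cen v' ≤ cen a' := fun u v' a' hn' hv' hu r' hr' hne hv'r ha'u hmem =>
        le_cen_of_not_nest hn' hv' hmem
          (hv'r.coprime_coprime ha'u ((Nat.coprime_primes hr' hu).2 hne))
      by_cases htr : t = r
      · subst htr
        obtain ⟨u, hu, hut, hup', hua⟩ := exists_third hns hr hp
        obtain ⟨a', ha'C, ha'u, ha'Z⟩ := hspread u hu hup' hua v hvZ
        have hle := hsmall u v a' hn hvZ hu t hr hut.symm hv ha'u ha'C
        rcases hle.lt_or_eq with hlt | he
        · exact hnest u hu hup' a' ha'u ha'Z ⟨v, hvZ, hlt⟩ t ht htp a (hle ha) hat c (hle hc)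
        · have hn' : ¬ Nest a' := fun ⟨x, hx, hlt⟩ => hn ⟨x, hx, he ▸ hlt⟩
          have := hsmall t a' a hn' ha'Z hr u hu hut ha'u hat (he ▸ ha)
          exact ((show Commute c a from mem_cen.1 (this (he ▸ hc)))).symm
      · exact (show Commute c a from mem_cen.1
          (hsmall t v a hn hvZ ht r hr (Ne.symm htr) hv hat ha hc)).symm
    refine ⟨p, hp, ⟨fun w a c hw ha hc hap => ?_⟩, fun t ht htp hta w hw => ?_⟩
    · obtain ⟨r, hr, v, hv, hvZ, hle, hd⟩ := exists_primary hw.2
      have hrp : r ≠ p := by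
        rintro rfl
        have := IsEl.coprime_of_reg hr (reg_of_dvd hw hvZ hd) hv
        simp [hr.ne_one] at this
      exact commute_of_primary hp hap fun t ht htp z hz hzt =>
        hprim r hr hrp v hv hvZ t ht htp z (Subgroup.zpowers_le.2 (hle ha) hz) hzt c (hle hc)
    · exact hspread t ht (by rintro rfl; simp [ht.ne_one] at htp) hta w hw.2

/-- Without nesting, either the structure theorem applies or all centralizers are abelian of two
primes at least. -/
theorem ThreeHyp.comp_of_flat (H : ThreeHyp G b s) (hns : ¬ Group.IsSolvable G)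
    (hF : ∀ y : G, y ∉ Subgroup.center G → ¬ Nest y) :
    (∃ p : ℕ, p.Prime ∧ Comp p G ∧ Spread p G) ∨
      (Comp 1 G ∧ ∀ w : G, w ∉ Subgroup.center G → ∀ r : ℕ, r.Prime →
        ∃ t : ℕ, t.Prime ∧ t ≠ r ∧ ∃ a ∈ cen w, IsEl t a ∧ a ∉ Subgroup.center G) := by
  have heq : ∀ x y : G, x ∉ Subgroup.center G → y ∉ Subgroup.center G → cen x ≤ cen y →
      cen x = cen y := fun x y hx hy hle =>
    hle.lt_or_eq.resolve_left fun hlt => hF y hy ⟨x, hx, hlt⟩
  have hcop : ∀ {r t : ℕ}, r.Prime → t.Prime → r ≠ t → ∀ {v a : G}, IsEl r v → IsEl t a →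
      v ∉ Subgroup.center G → a ∈ cen v → cen v ≤ cen a := fun {r t} hr ht hne {v a} hv ha hvZ hmem =>
    le_cen_of_not_nest (hF v hvZ) hvZ hmem (hv.coprime_coprime ha ((Nat.coprime_primes hr ht).2 hne))
  -- a centralizer with two primes is abelian
  have hab : ∀ {r t : ℕ}, r.Prime → t.Prime → r ≠ t → ∀ {v a : G}, IsEl r v → IsEl t a →
      v ∉ Subgroup.center G → a ∉ Subgroup.center G → a ∈ cen v →
      ∀ c ∈ cen v, ∀ d ∈ cen v, Commute c d := by
    intro r t hr ht hne v a hv ha hvZ haZ hmem c hc d hd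
    have he := heq v a hvZ haZ (hcop hr ht hne hv ha hvZ hmem)
    refine mem_cen.1 (le_of_forall_pElt (K := Subgroup.zpowers c) (H := cen d) ?_
      (Subgroup.mem_zpowers c))
    intro u hu z hz hzu
    have hzv : z ∈ cen v := Subgroup.zpowers_le.2 hc hz
    by_cases hur : u = r
    · subst hur
      exact mem_cen.2 (mem_cen.1
        (hcop ht hu hne.symm ha hzu haZ (he ▸ hzv) (he ▸ hd))).symm
    · exact mem_cen.2 (mem_cen.1 (hcop hr hu (Ne.symm hur) hv hzu hvZ hzv hd)).symm
  by_cases hA : ∃ r : ℕ, r.Prime ∧ ∃ v : G, IsEl r v ∧ v ∉ Subgroup.center G ∧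
      ∀ t : ℕ, t.Prime → t ≠ r → ∀ a ∈ cen v, IsEl t a → a ∈ Subgroup.center G
  · left
    obtain ⟨p, hp, v, hv, hvZ, honly⟩ := hA
    -- the other centralizers all have the other order
    have hne : ∀ t : ℕ, t.Prime → t ≠ p → ∀ u : G, IsEl t u → u ∉ Subgroup.center G →
        Nat.card (cen u) ≠ Nat.card (cen v) := by
      intro t ht htp u hu huZ he
      obtain ⟨a, haC, hat, haZ⟩ := el_transfer (x := v) ht hu huZ (le_of_eq (by rw [he]))
      exact haZ (honly t ht htp a haC hat)
    have hsame : ∀ t t' : ℕ, t.Prime → t'.Prime → t ≠ p → t' ≠ p → ∀ u u' : G, IsEl t u →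
        IsEl t' u' → u ∉ Subgroup.center G → u' ∉ Subgroup.center G →
        Nat.card (cen u) = Nat.card (cen u') := by
      intro t t' ht ht' htp htp' u u' hu hu' huZ huZ'
      have h1 := hne t ht htp u hu huZ
      have h2 := hne t' ht' htp' u' hu' huZ'
      rcases H.sizes v hvZ with e | e <;> rcases H.sizes u huZ with e1 | e1 <;>
        rcases H.sizes u' huZ' with e2 | e2 <;> omega
    have hpart : ∀ w : G, Reg p w → ∃ t : ℕ, t.Prime ∧ t ≠ p ∧ ∃ u : G, IsEl t u ∧
        u ∉ Subgroup.center G ∧ cen w = cen u := by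
      intro w hw
      obtain ⟨t, ht, u, hu, huZ, hle, hd⟩ := exists_primary hw.2
      refine ⟨t, ht, ?_, u, hu, huZ, heq w u hw.2 huZ hle⟩
      rintro rfl
      have := IsEl.coprime_of_reg ht (reg_of_dvd hw huZ hd) hu
      simp [ht.ne_one] at this
    refine ⟨p, hp, ⟨fun w a c hw ha hc _ => ?_⟩, fun t ht htp hta w hw => ?_⟩
    · obtain ⟨t, ht, htp, u, hu, huZ, he⟩ := hpart w hw
      obtain ⟨t', ht', htp', htt', ⟨u', hu', huZ'⟩⟩ := exists_third hns hp ht
      obtain ⟨a', ha', hat', haZ'⟩ := el_transfer (x := u) ht' hu' huZ'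
        (le_of_eq (by rw [hsame t' t ht' ht htp' htp u' u hu' hu huZ' huZ]))
      exact hab ht ht' (Ne.symm htt') hu hat' huZ haZ' ha' a (he ▸ ha) c (he ▸ hc)
    · obtain ⟨t', ht', htp', u', hu', huZ', he⟩ := hpart w hw
      obtain ⟨u, hu, huZ⟩ := hta
      have htp2 : t ≠ p := by rintro rfl; simp [ht.ne_one] at htp
      rw [he]
      exact el_transfer ht hu huZ (le_of_eq (by rw [hsame t t' ht ht' htp2 htp' u u' hu hu' huZ huZ']))
  · right
    push Not at hA
    have hkey : ∀ w : G, w ∉ Subgroup.center G → ∃ r : ℕ, r.Prime ∧ ∃ t : ℕ, t.Prime ∧ r ≠ t ∧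
        ∃ v a : G, IsEl r v ∧ v ∉ Subgroup.center G ∧ IsEl t a ∧ a ∉ Subgroup.center G ∧
          a ∈ cen v ∧ cen w = cen v := by
      intro w hw
      obtain ⟨r, hr, v, hv, hvZ, hle, -⟩ := exists_primary hw
      obtain ⟨t, ht, htr, a, haC, hat, haZ⟩ := hA r hr v hv hvZ
      exact ⟨r, hr, t, ht, Ne.symm htr, v, a, hv, hvZ, hat, haZ, haC, heq w v hw hvZ hle⟩
    refine ⟨⟨fun w a c hw ha hc _ => ?_⟩, fun w hw u hu => ?_⟩
    · obtain ⟨r, hr, t, ht, hne, v, z, hv, hvZ, hz, hzZ, hmem, he⟩ := hkey w hw.2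
      exact hab hr ht hne hv hz hvZ hzZ hmem a (he ▸ ha) c (he ▸ hc)
    · obtain ⟨r, hr, t, ht, hne, v, z, hv, hvZ, hz, hzZ, hmem, he⟩ := hkey w hw
      by_cases hru : r = u
      · exact ⟨t, ht, hru ▸ hne.symm, z, he ▸ hmem, hz, hzZ⟩
      · exact ⟨r, hr, hru, v, he ▸ mem_cen.2 rfl, hv, hvZ⟩

end CfsgLib.ThreeSizes
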