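import Cfsg.Agent.ThreeSizes.Count
import Cfsg.Agent.ThreeSizes.Nested
import Cfsg.Agent.S0035
import Cfsg.Agent.S0042

/-!
All centralizers abelian, of two primes at least and of two orders. A real element gives a conjugacy
class of centralizers exhausting its order. If the other order is exhausted by one class too, it is
self-normalizing, as the classes cover `G`, and is a Frobenius complement modulo the centre.
Otherwise the count shows that these centralizers cover too little.
-/

set_option autoImplicit false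

open scoped commutatorElement

namespace CfsgLib.ThreeSizes

open CfsgLib.TwoSizes (cen mem_cen center_le_cen cen_eq_top cen_mul_le le_of_forall_pElt)
open CfsgLib.TwoRegular (Reg IsEl part mem_part_of part_le)

variable {G : Type*} [Group G] [Finite G]

theorem reg_one {w : G} (hw : w ∉ Subgroup.center G) : Reg 1 w :=
  ⟨Nat.coprime_one_right _, hw⟩

theorem dvd_index_of_el {t : ℕ} (ht : t.Prime) {a : G} (ha : IsEl t a)
    (haZ : a ∉ Subgroup.center G) : t ∣ (Subgroup.center G).index := by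
  by_contra hnd
  refine haZ (mem_of_coprime_index ?_)
  obtain ⟨j, hj⟩ := isEl_orderOf ht ha
  rw [hj]
  exact ((ht.coprime_iff_not_dvd).2 hnd).pow_left _

/-- A self-normalizing abelian centralizer is a Frobenius complement modulo the centre. -/
theorem isSolvable_of_selfNormalizing (h : Comp 1 G) {w : G} (hw : w ∉ Subgroup.center G)
    (hN : nrm w = cen w) : Group.IsSolvable G := by
  refine isSolvable_of_center ?_
  set π := QuotientGroup.mk' (Subgroup.center G) with hπ
  have hmem : ∀ g : G, π g ∈ (cen w).map π → g ∈ cen w := by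
    rintro g ⟨a, ha, he⟩
    have h1 : a⁻¹ * g ∈ Subgroup.center G := QuotientGroup.eq.1 he
    have := mul_mem ha (center_le_cen w h1)
    rwa [mul_inv_cancel_left] at this
  have hH : Cfsg.IsFrobeniusComplement ((cen w).map π) := by
    refine ⟨fun hb => hw ?_, fun ht => hw ?_, fun x hx => ?_⟩
    · have h1 : π w ∈ (cen w).map π := Subgroup.mem_map_of_mem _ (mem_cen.2 rfl)
      rw [hb, Subgroup.mem_bot] at h1
      exact (QuotientGroup.eq_one_iff w).1 h1
    · exact Subgroup.mem_center_iff.2 fun g => mem_cen.1 (hmem g (ht ▸ Subgroup.mem_top _))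
    · obtain ⟨g, rfl⟩ := QuotientGroup.mk'_surjective _ x
      rw [eq_bot_iff]
      intro y hy
      obtain ⟨hy1, hy2⟩ := Subgroup.mem_inf.1 hy
      rw [Subgroup.mem_pointwise_smul_iff_inv_smul_mem, ← map_inv,
        MulAut.smul_def, MulAut.conj_apply, inv_inv] at hy2
      obtain ⟨a, ha, rfl⟩ := hy1
      rw [← map_inv, ← map_mul, ← map_mul] at hy2
      have hb := hmem _ hy2
      rw [Subgroup.mem_bot]
      refine (QuotientGroup.eq_one_iff a).2 ?_
      by_contra haZ
      apply hx
      have hga : Reg 1 (g⁻¹ * a * g) := reg_one fun hh => haZ (by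
        have := TwoRegular.conj_mem_center (g := g) hh
        rwa [show g * (g⁻¹ * a * g) * g⁻¹ = a by group] at this)
      have e1 := h.cen_eq (reg_one hw) hga hb
      have e2 := h.cen_eq (reg_one hw) (reg_one haZ) ha
      have : g⁻¹ ∈ nrm a := mem_nrm_of (by rw [inv_inv, e1, e2])
      rw [nrm, e2] at this
      refine Subgroup.mem_map_of_mem _ ?_
      have h3 : g⁻¹ ∈ nrm w := this
      rw [hN] at h3
      simpa using inv_mem h3
  obtain ⟨N, hNk, hNn, hcomp⟩ := Cfsg.Agent.S0035.result _ hH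
  obtain ⟨N', hN'k, -, hN'nil⟩ := Cfsg.Agent.S0042.result _ hH
  obtain rfl : N' = N := SetLike.coe_injective (hN'k.trans hNk.symm)
  haveI := hNn
  haveI := hN'nil
  haveI hHs : Group.IsSolvable ((cen w).map π) := by
    refine Group.isSolvable_of_comm ?_
    rintro ⟨_, a, ha, rfl⟩ ⟨_, b, hb, rfl⟩
    exact Subtype.ext (show π a * π b = π b * π a by
      rw [← map_mul, ← map_mul, (h.comm (reg_one hw) ha hb (Nat.coprime_one_right _)).eq])
  haveI : Group.IsSolvable ((G ⧸ Subgroup.center G) ⧸ N') := by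
    refine Group.isSolvable_of_surjective (G := (cen w).map π)
      (f := (QuotientGroup.mk' N').comp ((cen w).map π).subtype) fun x => ?_
    obtain ⟨y, rfl⟩ := QuotientGroup.mk'_surjective _ x
    obtain ⟨⟨⟨n, hn⟩, ⟨k, hk⟩⟩, hnk⟩ := hcomp.2 y
    refine ⟨⟨k, hk⟩, ?_⟩
    have hn1 : QuotientGroup.mk' N' n = 1 := (QuotientGroup.eq_one_iff n).2 hn
    simp only at hnk
    rw [← hnk, map_mul, hn1, one_mul]
    rfl
  exact Group.isSolvable_of_ker_le_range N'.subtype (QuotientGroup.mk' N')
    (by rw [QuotientGroup.ker_mk', Subgroup.range_subtype])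

/-- A proper normalizer is at least twice as large. -/
theorem two_mul_le_nrm {w : G} (hN : nrm w ≠ cen w) :
    2 * Nat.card (cen w) ≤ Nat.card (nrm w) := by
  obtain ⟨k, hk⟩ := Subgroup.card_dvd_of_le (cen_le_nrm w)
  have hk0 : k ≠ 0 := fun h0 => Nat.card_pos.ne' (by rw [hk, h0, mul_zero] : Nat.card (nrm w) = 0)
  have hk1 : k ≠ 1 := fun h1 => hN
    (Subgroup.eq_of_le_of_card_ge (cen_le_nrm w) (by rw [hk, h1, mul_one])).symm
  rw [hk, mul_comm 2]
  exact Nat.mul_le_mul_left _ (by omega)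

/-- **The abelian case does not occur.** -/
theorem ThreeHyp.false_of_abelian {b s : ℕ} (H : ThreeHyp G b s) (hns : ¬ Group.IsSolvable G)
    (h : Comp 1 G) (htwo : ∀ w : G, w ∉ Subgroup.center G → ∀ r : ℕ, r.Prime →
      ∃ t : ℕ, t.Prime ∧ t ≠ r ∧ ∃ a ∈ cen w, IsEl t a ∧ a ∉ Subgroup.center G) : False := by
  classical
  -- a good prime makes all centralizers of the same order conjugate
  have hconj : ∀ w w' : G, w ∉ Subgroup.center G → w' ∉ Subgroup.center G →
      Nat.card (cen w) = Nat.card (cen w') → ∀ t : ℕ, t.Prime → Good t w →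
      (∃ a ∈ cen w, IsEl t a ∧ a ∉ Subgroup.center G) → ∃ g : G, cen (g * w' * g⁻¹) = cen w := by
    rintro w w' hw hw' hcard t ht hgood ⟨a, haC, hat, haZ⟩
    refine h.exists_conj_of_good (reg_one hw) (reg_one hw') ht (Nat.coprime_one_right _) hgood
      ⟨a, haC, hat, haZ⟩ (el_transfer ht hat haZ (le_of_eq ?_))
    rw [h.cen_eq (reg_one hw) (reg_one haZ) haC, hcard]
  -- the covered sets
  let U : G → Set G := fun w => {a : G | a ∉ Subgroup.center G ∧ ∃ g : G, a ∈ cen (g * w * g⁻¹)}
  have hmemU : ∀ w a : G, a ∉ Subgroup.center G → (∃ g : G, cen (g * a * g⁻¹) = cen w) →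
      a ∈ U w := by
    rintro w a ha ⟨g, hg⟩
    refine ⟨ha, g⁻¹, ?_⟩
    rw [← cen_conj_congr hg, show g⁻¹ * (g * a * g⁻¹) * g⁻¹⁻¹ = a by group]
    exact mem_cen.2 rfl
  obtain ⟨x, g, hxZ, hx2, hg⟩ := exists_real hns
  obtain ⟨ι, hι⟩ := exists_invRep_of_real hxZ hx2 hg
  obtain ⟨t, ht, ht2, hta⟩ := htwo x hxZ 2 Nat.prime_two
  obtain ⟨u, hu, hut, hua⟩ := htwo x hxZ t ht
  have hgoodx : Good t x := h.good_of_invRep (reg_one hxZ) hι ht hu (Nat.coprime_one_right _)
    (Nat.coprime_one_right _) hut.symm ht2 hta hua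
  have hxU : ∀ a : G, a ∉ Subgroup.center G → Nat.card (cen a) = Nat.card (cen x) → a ∈ U x :=
    fun a ha hc => hmemU x a ha (hconj x a hxZ ha hc.symm t ht hgoodx hta)
  have hxN : nrm x ≠ cen x := fun e => hι.notMem (e ▸ hι.mem)
  have hX := cover_le x 2 (two_mul_le_nrm hxN)
  change 2 * ((U x).ncard + _) ≤ _ at hX
  -- the other order
  obtain ⟨y, hyZ, hyc⟩ : ∃ y : G, y ∉ Subgroup.center G ∧ Nat.card (cen y) ≠ Nat.card (cen x) := by
    obtain ⟨y₁, h1, e1⟩ := H.big
    obtain ⟨y₂, h2, e2⟩ := H.small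
    have := H.lt
    rcases H.sizes x hxZ with e | e
    · exact ⟨y₂, h2, by omega⟩
    · exact ⟨y₁, h1, by omega⟩
  have hother : ∀ a : G, a ∉ Subgroup.center G →
      Nat.card (cen a) = Nat.card (cen x) ∨ Nat.card (cen a) = Nat.card (cen y) := by
    intro a ha
    rcases H.sizes a ha with e | e <;> rcases H.sizes x hxZ with e1 | e1 <;>
      rcases H.sizes y hyZ with e2 | e2 <;> omega
  have htotal : ∀ V : Set G, (∀ a : G, a ∉ Subgroup.center G →
      Nat.card (cen a) = Nat.card (cen y) → a ∈ V) →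
      Nat.card G ≤ Nat.card (Subgroup.center G) + (U x).ncard + V.ncard := by
    intro V hV
    have hsub : (Set.univ : Set G) ⊆ (Subgroup.center G : Set G) ∪ U x ∪ V := by
      intro a _
      by_cases haZ : a ∈ Subgroup.center G
      · exact Or.inl (Or.inl haZ)
      · rcases hother a haZ with e | e
        · exact Or.inl (Or.inr (hxU a haZ e))
        · exact Or.inr (hV a haZ e)
    have h1 := ((Set.ncard_le_ncard hsub).trans (Set.ncard_union_le _ _)).trans
      (Nat.add_le_add_right (Set.ncard_union_le _ _) _)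
    rwa [Set.ncard_univ, ← Nat.card_coe_set_eq (Subgroup.center G : Set G)] at h1
  by_cases hgood : ∃ w : G, w ∉ Subgroup.center G ∧ Nat.card (cen w) = Nat.card (cen y) ∧
      ∃ t : ℕ, t.Prime ∧ Good t w ∧ ∃ a ∈ cen w, IsEl t a ∧ a ∉ Subgroup.center G
  · obtain ⟨w, hwZ, hwc, t', ht', hgoodw, htw⟩ := hgood
    by_cases hN : nrm w = cen w
    · exact hns (isSolvable_of_selfNormalizing h hwZ hN)
    have hY := cover_le w 2 (two_mul_le_nrm hN)
    change 2 * ((U w).ncard + _) ≤ _ at hY
    have h1 := htotal (U w) fun a ha hc =>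
      hmemU w a ha (hconj w a hwZ ha (hwc.trans hc.symm) t' ht' hgoodw htw)
    have hx0 := Nat.le_mul_of_pos_left (Nat.card (Subgroup.center G))
      (Nat.pos_of_ne_zero (Subgroup.index_ne_zero_of_finite (H := nrm x)))
    have hw0 := Nat.le_mul_of_pos_left (Nat.card (Subgroup.center G))
      (Nat.pos_of_ne_zero (Subgroup.index_ne_zero_of_finite (H := nrm w)))
    have hz : 0 < Nat.card (Subgroup.center G) := Nat.card_pos
    omega
  · push Not at hgood
    have hbad : ∀ w : G, w ∉ Subgroup.center G → Nat.card (cen w) = Nat.card (cen y) →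
        ∀ r : ℕ, r.Prime → (∃ a ∈ cen w, IsEl r a ∧ a ∉ Subgroup.center G) → ¬ Good r w := by
      rintro w hw hc r hr ⟨a, haC, har, haZ⟩ hg'
      exact haZ (hgood w hw hc r hr hg' a haC har)
    have hall : ∀ r : ℕ, r.Prime → (∃ a ∈ cen y, IsEl r a ∧ a ∉ Subgroup.center G) →
        ∀ w : G, w ∉ Subgroup.center G → Nat.card (cen w) = Nat.card (cen y) →
          ∃ a ∈ cen w, IsEl r a ∧ a ∉ Subgroup.center G := by
      rintro r hr ⟨a, haC, har, haZ⟩ w hw hc
      refine el_transfer hr har haZ (le_of_eq ?_)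
      rw [h.cen_eq (reg_one hyZ) (reg_one haZ) haC, hc]
    have hno2 : ¬ ∃ a ∈ cen y, IsEl 2 a ∧ a ∉ Subgroup.center G := by
      intro h2
      obtain ⟨t', ht', ht'2, ht'a⟩ := htwo y hyZ 2 Nat.prime_two
      obtain ⟨r, hr, -, hg', hra⟩ := h.exists_good (reg_one hyZ) (Nat.coprime_one_right _) h2
        ⟨t', ht', ht'2, Nat.coprime_one_right _, ht'a⟩
      exact hbad y hyZ rfl r hr hra hg'
    obtain ⟨q, r, hq, hr, hq3, hqr, hqa, hra⟩ : ∃ q r : ℕ, q.Prime ∧ r.Prime ∧ 3 ≤ q ∧ q < r ∧
        (∃ a ∈ cen y, IsEl q a ∧ a ∉ Subgroup.center G) ∧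
        ∃ a ∈ cen y, IsEl r a ∧ a ∉ Subgroup.center G := by
      obtain ⟨t1, h1, h12, h1a⟩ := htwo y hyZ 2 Nat.prime_two
      obtain ⟨t2, h2, h21, h2a⟩ := htwo y hyZ t1 h1
      have h22 : t2 ≠ 2 := fun e => hno2 (e ▸ h2a)
      have := h1.two_le
      have := h2.two_le
      rcases Nat.lt_or_gt_of_ne h21 with hlt | hlt
      · exact ⟨t2, t1, h2, h1, by omega, hlt, h2a, h1a⟩
      · exact ⟨t1, t2, h1, h2, by omega, hlt, h1a, h2a⟩
    have hr5 : 5 ≤ r := by
      by_contra hlt
      have h4 : r = 4 := by omega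
      subst h4
      norm_num at hr
    have hV := count_bad h hq hr hq3 hr5 hqr.ne (hall q hq hqa)
      fun w hw hc => hbad w hw hc r hr (hall r hr hra w hw hc)
    have h1 := htotal {a : G | a ∉ Subgroup.center G ∧ Nat.card (cen a) = Nat.card (cen y)}
      fun a ha hc => ⟨ha, hc⟩
    -- `G / Z(G)` has order at least ten
    have h10 : 10 ≤ (Subgroup.center G).index := by
      obtain ⟨a, ha, haZ⟩ := exists_two_el hns
      obtain ⟨b', -, hb', hbZ⟩ := hra
      have hd := Nat.Coprime.mul_dvd_of_dvd_of_dvd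
        ((Nat.coprime_primes Nat.prime_two hr).2 (by omega)) (dvd_index_of_el Nat.prime_two ha haZ)
        (dvd_index_of_el hr hb' hbZ)
      have := Nat.le_of_dvd (Nat.pos_of_ne_zero Subgroup.index_ne_zero_of_finite) hd
      omega
    have hG := Nat.mul_le_mul_right (Nat.card (Subgroup.center G)) h10
    rw [Subgroup.index_mul_card] at hG
    have hz : 0 < Nat.card (Subgroup.center G) := Nat.card_pos
    have hx0 := Nat.le_mul_of_pos_left (Nat.card (Subgroup.center G))
      (Nat.pos_of_ne_zero (Subgroup.index_ne_zero_of_finite (H := nrm x)))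
    omega

end CfsgLib.ThreeSizes
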