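import Cfsg.Agent.ClassSizes.TwoSizes
import Cfsg.Agent.ClassSizes.NotDvdIndex
import Cfsg.Agent.TwoRegular.Local
import Cfsg.Agent.Chars.Apps.Burnside
import Cfsg.Agent.S3861
import Cfsg.Agent.S0205

/-!
Preliminaries for Ito's theorem on three class sizes: prime power parts of non-central elements,
the primes of `G/Z(G)`, and the consequences of the theorems of Burnside and of Feit and Thompson.
-/

set_option autoImplicit false

open scoped commutatorElement

namespace CfsgLib.ThreeSizes

open CfsgLib.TwoSizes (cen mem_cen center_le_cen cen_eq_top cen_mul_le le_of_forall_pElt)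
open CfsgLib.TwoRegular (Reg IsEl)

variable {G : Type*} [Group G]

theorem isEl_orderOf {q : ℕ} (hq : q.Prime) {v : G} (hv : IsEl q v) :
    ∃ j, orderOf v = q ^ j := by
  obtain ⟨k, hk⟩ := hv
  obtain ⟨j, -, hj⟩ := (Nat.dvd_prime_pow hq).1 (orderOf_dvd_of_pow_eq_one hk)
  exact ⟨j, hj⟩

theorem isPGroup_zpowers {q : ℕ} (hq : q.Prime) {v : G} (hv : IsEl q v) :
    IsPGroup q (Subgroup.zpowers v) := by
  obtain ⟨j, hj⟩ := isEl_orderOf hq hv
  exact IsPGroup.of_card (n := j) (by rw [Nat.card_zpowers, hj])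

/-- A central commutator of elements of coprime orders is trivial. -/
theorem commute_of_coprime {g u : G} (hz : ⁅g, u⁆ ∈ Subgroup.center G)
    (hco : (orderOf g).Coprime (orderOf u)) : Commute g u := by
  have h1 : ⁅g, u⁆ ^ orderOf g = 1 := by
    rw [← CfsgLib.PGroup.commutatorElement_pow_left (TwoRegular.commute_comm hz g),
      pow_orderOf_eq_one, commutatorElement_one_left]
  have h2 : ⁅g, u⁆ ^ orderOf u = 1 := by
    rw [← CfsgLib.PGroup.commutatorElement_pow_right (TwoRegular.commute_comm hz u),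
      pow_orderOf_eq_one, commutatorElement_one_right]
  exact commutatorElement_eq_one_iff_mul_comm.1 (orderOf_eq_one_iff.1
    (Nat.eq_one_of_dvd_coprimes hco (orderOf_dvd_of_pow_eq_one h1) (orderOf_dvd_of_pow_eq_one h2)))

theorem cen_mul_eq {x y : G} (hxy : Commute x y) (hco : (orderOf x).Coprime (orderOf y)) :
    cen (x * y) = cen x ⊓ cen y := by
  refine le_antisymm (le_inf (cen_mul_le hxy hco) ?_) fun g hg => ?_
  · rw [hxy.eq]; exact cen_mul_le hxy.symm hco.symm
  · exact mem_cen.2 ((show Commute g x from mem_cen.1 hg.1).mul_right (mem_cen.1 hg.2))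

theorem notMem_center_of_cen_le {x y : G} (hy : y ∉ Subgroup.center G) (h : cen x ≤ cen y) :
    x ∉ Subgroup.center G := fun hx => hy <| Subgroup.mem_center_iff.2 fun g =>
  mem_cen.1 (h ((cen_eq_top hx).ge (Subgroup.mem_top g)))

variable [Finite G]

/-- A non-central prime power part with a larger centralizer. -/
theorem exists_primary {g : G} (hg : g ∉ Subgroup.center G) :
    ∃ q : ℕ, q.Prime ∧ ∃ v : G, IsEl q v ∧ v ∉ Subgroup.center G ∧ cen g ≤ cen v ∧
      orderOf v ∣ orderOf g := by
  by_contra hcon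
  refine hg (le_of_forall_pElt (K := Subgroup.zpowers g) ?_ (Subgroup.mem_zpowers g))
  intro q hq z hz hzq
  by_contra hzZ
  refine hcon ⟨q, hq, z, hzq, hzZ, fun c hc => ?_, orderOf_dvd_of_mem_zpowers hz⟩
  obtain ⟨k, rfl⟩ := Subgroup.mem_zpowers_iff.1 hz
  exact mem_cen.2 (Commute.zpow_right (mem_cen.1 hc) k)

theorem reg_of_dvd {p : ℕ} {g v : G} (hg : Reg p g) (hv : v ∉ Subgroup.center G)
    (hd : orderOf v ∣ orderOf g) : Reg p v :=
  ⟨hg.1.coprime_dvd_left hd, hv⟩

theorem reg_of_el {p q : ℕ} {v : G} (hv : IsEl q v) (hvZ : v ∉ Subgroup.center G)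
    (hqp : q.Coprime p) : Reg p v :=
  ⟨hv.coprime hqp, hvZ⟩

/-- A subgroup containing the centre has a non-central `t`-element exactly when its `t`-part is
larger than that of the centre. -/
theorem el_iff {t : ℕ} (ht : t.Prime) {H : Subgroup G} (hZ : Subgroup.center G ≤ H) :
    (∃ a ∈ H, IsEl t a ∧ a ∉ Subgroup.center G) ↔
      (Nat.card (Subgroup.center G)).factorization t < (Nat.card H).factorization t := by
  haveI : Fact t.Prime := ⟨ht⟩
  constructor
  · rintro ⟨a, haH, hat, haZ⟩
    obtain ⟨P, hPle, hP, hPc⟩ := TwoRegular.exists_sylow_card (r := t) (Subgroup.center G)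
    have hnorm : Subgroup.zpowers a ≤ Subgroup.normalizer (P : Set G) :=
      le_trans (fun g _ => Subgroup.mem_centralizer_iff.2 fun u hu =>
        (Subgroup.mem_center_iff.1 (hPle hu) g).symm) (Subgroup.centralizer_le_normalizer _)
    have hsup : IsPGroup t (Subgroup.zpowers a ⊔ P : Subgroup G) :=
      (isPGroup_zpowers ht hat).to_sup_of_normal_right' hP hnorm
    have hlt : P < Subgroup.zpowers a ⊔ P := lt_of_le_of_ne le_sup_right fun he =>
      haZ (hPle (he.ge (le_sup_left (b := P) (Subgroup.mem_zpowers a))))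
    have h1 := TwoRegular.card_le_of_pGroup hsup
      (sup_le (Subgroup.zpowers_le.2 haH) (hPle.trans hZ))
    have h2 : Nat.card P < Nat.card (Subgroup.zpowers a ⊔ P : Subgroup G) := by
      by_contra hge
      exact hlt.ne (Subgroup.eq_of_le_of_card_ge hlt.le (not_lt.1 hge))
    rw [hPc] at h2
    exact (Nat.pow_lt_pow_iff_right ht.one_lt).1 (h2.trans_le h1)
  · intro hlt
    obtain ⟨P, hPle, hP, hPc⟩ := TwoRegular.exists_sylow_card (r := t) H
    by_contra hno
    push Not at hno
    have hPZ : P ≤ Subgroup.center G := fun a ha =>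
      hno a (hPle ha) (IsEl.of_mem_pGroup hP ha)
    have h1 := TwoRegular.card_le_of_pGroup hP hPZ
    rw [hPc] at h1
    exact absurd ((Nat.pow_le_pow_iff_right ht.one_lt).1 h1) (by omega)

/-- The centralizer of a non-central `t`-element has a non-central `t`-element. -/
theorem el_transfer {t : ℕ} (ht : t.Prime) {v x : G} (hv : IsEl t v)
    (hvZ : v ∉ Subgroup.center G)
    (hle : (Nat.card (cen v)).factorization t ≤ (Nat.card (cen x)).factorization t) :
    ∃ a ∈ cen x, IsEl t a ∧ a ∉ Subgroup.center G :=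
  (el_iff ht (center_le_cen x)).2
    (lt_of_lt_of_le ((el_iff ht (center_le_cen v)).1 ⟨v, mem_cen.2 rfl, hv, hvZ⟩) hle)

omit [Finite G] in
theorem isSolvable_of_center (h : Group.IsSolvable (G ⧸ Subgroup.center G)) :
    Group.IsSolvable G := by
  haveI := h
  haveI : Group.IsSolvable (Subgroup.center G) :=
    Group.isSolvable_of_comm fun a b => Subtype.ext (Subgroup.mem_center_iff.1 b.2 a)
  exact Group.isSolvable_of_ker_le_range (Subgroup.center G).subtype
    (QuotientGroup.mk' (Subgroup.center G))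
    (by rw [QuotientGroup.ker_mk', Subgroup.range_subtype])

/-- The primes of `G/Z(G)` are those of the non-central elements of prime power order. -/
theorem exists_el_of_dvd_index {t : ℕ} (ht : t.Prime) (hd : t ∣ (Subgroup.center G).index) :
    ∃ a : G, IsEl t a ∧ a ∉ Subgroup.center G := by
  haveI : Fact t.Prime := ⟨ht⟩
  obtain ⟨P⟩ : Nonempty (Sylow t G) := inferInstance
  by_contra hno
  push Not at hno
  have hPZ : (P : Subgroup G) ≤ Subgroup.center G := fun a ha =>
    hno a (IsEl.of_mem_pGroup P.isPGroup' ha)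
  exact P.not_dvd_index (hd.trans (Subgroup.index_dvd_of_le hPZ))

theorem isSolvable_of_two_primes {p q : ℕ} (hp : p.Prime) (hq : q.Prime)
    (h : ∀ r : ℕ, r.Prime → ∀ a : G, IsEl r a → a ∉ Subgroup.center G → r = p ∨ r = q) :
    Group.IsSolvable G := by
  refine isSolvable_of_center ?_
  set n := (Subgroup.center G).index with hn
  have hn0 : n ≠ 0 := Subgroup.index_ne_zero_of_finite
  have hdvd : ∀ r : ℕ, r.Prime → r ∣ n → r = p ∨ r = q := fun r hr hd =>
    let ⟨a, ha, haZ⟩ := exists_el_of_dvd_index hr hd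
    h r hr a ha haZ
  by_cases hpq : p = q
  · subst hpq
    have hpow : n = p ^ n.primeFactorsList.length :=
      Nat.eq_prime_pow_of_unique_prime_dvd hn0 fun {d} hd hdn => (hdvd d hd hdn).elim id id
    refine CfsgLib.Chars.Apps.isSolvable_of_card_eq_pow_mul_pow _ hp hp
      (a := n.primeFactorsList.length) (b := 0) ?_
    rw [pow_zero, mul_one, ← hpow]
    rfl
  · refine CfsgLib.Chars.Apps.isSolvable_of_card_eq_pow_mul_pow _ hp hq
      (a := n.factorization p) (b := n.factorization q) ?_
    have hsub : n.primeFactors ⊆ {p, q} := fun r hr => by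
      rw [Finset.mem_insert, Finset.mem_singleton]
      exact hdvd r (Nat.prime_of_mem_primeFactors hr) (Nat.dvd_of_mem_primeFactors hr)
    have h1 : n = ∏ r ∈ ({p, q} : Finset ℕ), r ^ n.factorization r := by
      conv_lhs => rw [← Nat.prod_factorization_pow_eq_self hn0]
      rw [Finsupp.prod, Nat.support_factorization]
      refine Finset.prod_subset hsub fun r _ hr => ?_
      have : n.factorization r = 0 := by rwa [← Nat.support_factorization, Finsupp.notMem_support_iff] at hr
      rw [this, pow_zero]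
    rw [Finset.prod_pair hpq] at h1
    exact h1

/-- A non-solvable group has a third prime. -/
theorem exists_third (hns : ¬ Group.IsSolvable G) {p q : ℕ} (hp : p.Prime) (hq : q.Prime) :
    ∃ t : ℕ, t.Prime ∧ t ≠ p ∧ t ≠ q ∧ ∃ a : G, IsEl t a ∧ a ∉ Subgroup.center G := by
  by_contra hcon
  refine hns (isSolvable_of_two_primes hp hq fun r hr a ha haZ => ?_)
  by_contra hne
  push Not at hne
  exact hcon ⟨r, hr, hne.1, hne.2, a, ha, haZ⟩

theorem exists_two_el (hns : ¬ Group.IsSolvable G) :
    ∃ a : G, IsEl 2 a ∧ a ∉ Subgroup.center G := by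
  by_contra hcon
  have hodd : Odd (Nat.card (G ⧸ Subgroup.center G)) := by
    rw [Nat.odd_iff, ← Nat.two_dvd_ne_zero]
    exact fun hd => hcon (exists_el_of_dvd_index Nat.prime_two hd)
  exact hns (isSolvable_of_center (Cfsg.Agent.S0205.result hodd))

/-- A non-solvable group has a real non-central element of odd order. -/
theorem exists_real (hns : ¬ Group.IsSolvable G) :
    ∃ x g : G, x ∉ Subgroup.center G ∧ (orderOf x).Coprime 2 ∧ g * x * g⁻¹ = x⁻¹ := by
  haveI : Fact (Nat.Prime 2) := ⟨Nat.prime_two⟩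
  obtain ⟨P⟩ : Nonempty (Sylow 2 G) := inferInstance
  by_cases hP : (P : Subgroup G).Normal
  · exfalso
    apply hns
    haveI := hP
    haveI : Group.IsNilpotent (P : Subgroup G) := P.isPGroup'.isNilpotent
    haveI : Group.IsSolvable (G ⧸ (P : Subgroup G)) := by
      refine Cfsg.Agent.S0205.result ?_
      rw [Nat.odd_iff, ← Nat.two_dvd_ne_zero]
      exact P.not_dvd_index
    exact Group.isSolvable_of_ker_le_range (P : Subgroup G).subtype
      (QuotientGroup.mk' (P : Subgroup G)) (by rw [QuotientGroup.ker_mk', Subgroup.range_subtype])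
  · obtain ⟨q, x, hq, hq2, hx, hconj⟩ := Cfsg.Agent.S3861.exists_real_odd_of_not_normal P hP
    obtain ⟨g, hg⟩ := isConj_iff.1 hconj
    refine ⟨x, g, fun hxZ => hq2 ?_, ?_, hg⟩
    · have h1 : x⁻¹ = x := by
        rw [← hg, Subgroup.mem_center_iff.1 hxZ g, mul_inv_cancel_right]
      have h2 : orderOf x ∣ 2 := orderOf_dvd_of_pow_eq_one
        (by rw [pow_two]; nth_rewrite 1 [← h1]; exact inv_mul_cancel x)
      rw [hx] at h2
      exact (Nat.prime_dvd_prime_iff_eq hq Nat.prime_two).1 h2
    · rw [hx]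
      exact (Nat.coprime_primes hq Nat.prime_two).2 hq2

end CfsgLib.ThreeSizes
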