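import Cfsg.Agent.ThreeSizes.Basic

/-!
Centralizers of non-central `p`-regular elements all of whose `p`-regular elements are central in
them. If such a centralizer `C` is normalised by an element that squares into `C` without lying in
it, then for each odd prime of `C`, a second prime being present, the Sylow subgroup of `C` is one
of the group; so centralizers containing that prime are conjugate to `C`.
-/

set_option autoImplicit false

open scoped commutatorElement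

namespace CfsgLib.ThreeSizes

open CfsgLib.TwoSizes (cen mem_cen center_le_cen cen_eq_top cen_mul_le le_of_forall_pElt)
open CfsgLib.TwoRegular (Reg IsEl part mem_part_of part_le)

/-- The `p`-regular elements of the centralizer of a non-central `p`-regular element are central
in it. For `p = 1` these centralizers are abelian. -/
structure Comp (p : ℕ) (G : Type*) [Group G] : Prop where
  comm : ∀ ⦃w a c : G⦄, Reg p w → a ∈ cen w → c ∈ cen w → (orderOf a).Coprime p → Commute a c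

variable {G : Type*} [Group G]

/-- The normalizer of a centralizer. -/
abbrev nrm (w : G) : Subgroup G := Subgroup.normalizer (cen w : Set G)

theorem mem_cen_conj {g w y : G} : y ∈ cen (g * w * g⁻¹) ↔ g⁻¹ * y * g ∈ cen w := by
  rw [mem_cen, mem_cen]
  constructor
  · intro h
    calc g⁻¹ * y * g * w = g⁻¹ * (y * (g * w * g⁻¹)) * g := by group
      _ = g⁻¹ * (g * w * g⁻¹ * y) * g := by rw [h]
      _ = w * (g⁻¹ * y * g) := by group
  · intro h
    calc y * (g * w * g⁻¹) = g * (g⁻¹ * y * g * w) * g⁻¹ := by group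
      _ = g * (w * (g⁻¹ * y * g)) * g⁻¹ := by rw [h]
      _ = g * w * g⁻¹ * y := by group

theorem cen_conj_congr {g v w : G} (h : cen v = cen w) :
    cen (g * v * g⁻¹) = cen (g * w * g⁻¹) := by
  ext y; rw [mem_cen_conj, mem_cen_conj, h]

theorem cen_conj_map (g w : G) :
    cen (g * w * g⁻¹) = (cen w).map (MulAut.conj g).toMonoidHom := by
  ext y
  rw [mem_cen_conj, Subgroup.mem_map]
  refine ⟨fun h => ⟨_, h, by simp [mul_assoc]⟩, ?_⟩
  rintro ⟨a, ha, rfl⟩
  simpa [mul_assoc] using ha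

theorem card_cen_conj (g w : G) : Nat.card (cen (g * w * g⁻¹)) = Nat.card (cen w) := by
  rw [cen_conj_map]; exact Subgroup.card_map_of_injective (MulAut.conj g).injective

theorem mem_nrm_of {g w : G} (h : cen (g * w * g⁻¹) = cen w) : g ∈ nrm w := by
  rw [Subgroup.mem_normalizer_iff]
  intro y
  have e : g⁻¹ * (g * y * g⁻¹) * g = y := by group
  constructor
  · intro hy
    rw [← h]
    exact mem_cen_conj.2 (by rw [e]; exact hy)
  · intro hy
    rw [← h] at hy
    have := mem_cen_conj.1 hy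
    rwa [e] at this

theorem cen_le_nrm (w : G) : cen w ≤ nrm w := Subgroup.le_normalizer

/-- `a` acts like an inversion on the element `u` modulo the centre. -/
def InvertsMod (a u : G) : Prop := u * (a * u * a⁻¹) ∈ Subgroup.center G

/-- The elements fixing every element of a set modulo the centre. -/
def fixMod (S : Set G) : Subgroup G where
  carrier := {f | ∀ u ∈ S, ⁅f, u⁆ ∈ Subgroup.center G}
  one_mem' := fun u _ => by rw [commutatorElement_one_left]; exact one_mem _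
  mul_mem' := fun {a b} ha hb u hu => by
    have : ⁅a * b, u⁆ = a * ⁅b, u⁆ * a⁻¹ * ⁅a, u⁆ := by simp only [commutatorElement_def]; group
    rw [this]
    exact mul_mem (TwoRegular.conj_mem_center (hb u hu)) (ha u hu)
  inv_mem' := fun {a} ha u hu => by
    have : ⁅a⁻¹, u⁆ = a⁻¹ * ⁅a, u⁆⁻¹ * a⁻¹⁻¹ := by simp only [commutatorElement_def]; group
    rw [this]
    exact TwoRegular.conj_mem_center (inv_mem (ha u hu))

theorem mul_mem_fixMod {S : Set G} {a b : G} (ha : ∀ u ∈ S, InvertsMod a u)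
    (hb : ∀ u ∈ S, InvertsMod b u) : a * b ∈ fixMod S := by
  intro u hu
  have h1 : b * u * b⁻¹ = u⁻¹ * (u * (b * u * b⁻¹)) := by group
  have hz := Subgroup.mem_center_iff.1 (hb u hu) a⁻¹
  have : ⁅a * b, u⁆ = u * (b * u * b⁻¹) * (u * (a * u * a⁻¹))⁻¹ := by
    calc ⁅a * b, u⁆ = a * (b * u * b⁻¹) * a⁻¹ * u⁻¹ := by simp only [commutatorElement_def]; group
      _ = a * u⁻¹ * ((u * (b * u * b⁻¹)) * a⁻¹) * u⁻¹ := by conv_lhs => rw [h1]
                                                            group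
      _ = a * u⁻¹ * (a⁻¹ * (u * (b * u * b⁻¹))) * u⁻¹ := by rw [hz]
      _ = (a * u⁻¹ * a⁻¹) * ((u * (b * u * b⁻¹)) * u⁻¹) := by group
      _ = (a * u⁻¹ * a⁻¹) * (u⁻¹ * (u * (b * u * b⁻¹))) := by
          rw [Subgroup.mem_center_iff.1 (hb u hu) u⁻¹]
      _ = (a * u⁻¹ * a⁻¹ * u⁻¹) * (u * (b * u * b⁻¹)) := by group
      _ = u * (b * u * b⁻¹) * (a * u⁻¹ * a⁻¹ * u⁻¹) :=
          Subgroup.mem_center_iff.1 (hb u hu) _
      _ = u * (b * u * b⁻¹) * (u * (a * u * a⁻¹))⁻¹ := by group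
  rw [this]
  exact mul_mem (hb u hu) (inv_mem (ha u hu))

/-- A 2-element normalising `C(w)`, squaring into it without lying in it. -/
structure InvRep (w ι : G) : Prop where
  mem : ι ∈ nrm w
  notMem : ι ∉ cen w
  sq : ι * ι ∈ cen w
  el : IsEl 2 ι

theorem InvRep.inv {w ι : G} (h : InvRep w ι) : InvRep w ι⁻¹ where
  mem := inv_mem h.mem
  notMem := fun hh => h.notMem (by simpa using inv_mem hh)
  sq := by rw [← mul_inv_rev]; exact inv_mem h.sq
  el := by obtain ⟨k, hk⟩ := h.el; exact ⟨k, by rw [inv_pow, hk, inv_one]⟩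

theorem InvRep.conj {w ι g : G} (h : InvRep w ι) (hg : g ∈ nrm w) :
    InvRep w (g * ι * g⁻¹) where
  mem := mul_mem (mul_mem hg h.mem) (inv_mem hg)
  notMem := fun hh => h.notMem ((Subgroup.mem_normalizer_iff.1 hg ι).2 hh)
  sq := by
    rw [show g * ι * g⁻¹ * (g * ι * g⁻¹) = g * (ι * ι) * g⁻¹ by group]
    exact (Subgroup.mem_normalizer_iff.1 hg (ι * ι)).1 h.sq
  el := h.el.conj g

/-- All `t`-elements normalising `C(w)` lie in it. -/
def Good (t : ℕ) (w : G) : Prop := ∀ g ∈ nrm w, IsEl t g → g ∈ cen w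

variable [Finite G]

theorem exists_invRep {w g : G} (hg : g ∈ nrm w) (hgC : g ∉ cen w) (hg2 : g * g ∈ cen w) :
    ∃ ι, InvRep w ι := by
  obtain ⟨a, m, hm, hn⟩ := Nat.exists_eq_two_pow_mul_odd (orderOf_pos g).ne'
  have hsq : ∀ j : ℕ, g ^ (2 * j) ∈ cen w := fun j => by
    rw [pow_mul, pow_two]; exact pow_mem hg2 j
  refine ⟨g ^ m, pow_mem hg m, fun hh => hgC ?_, ?_,
    ⟨a, by rw [← pow_mul, mul_comm, ← hn, pow_orderOf_eq_one]⟩⟩
  · obtain ⟨j, hj⟩ := hm
    rw [hj, pow_succ] at hh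
    exact (Subgroup.mul_mem_cancel_left _ (hsq j)).1 hh
  · rw [← pow_add, ← two_mul]; exact hsq m

theorem exists_invRep_of_el {w g : G} (hg : g ∈ nrm w) (hg2 : IsEl 2 g) (hgC : g ∉ cen w) :
    ∃ ι, InvRep w ι := by
  classical
  obtain ⟨k, hk⟩ := hg2
  have hex : ∃ i, g ^ 2 ^ i ∈ cen w := ⟨k, hk ▸ one_mem _⟩
  have hi0 : Nat.find hex ≠ 0 := fun h0 => hgC (by
    have := Nat.find_spec hex; rwa [h0, pow_zero, pow_one] at this)
  obtain ⟨i, hi⟩ := Nat.exists_eq_succ_of_ne_zero hi0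
  refine exists_invRep (pow_mem hg (2 ^ i)) (Nat.find_min hex (by omega)) ?_
  rw [← pow_two, ← pow_mul, ← pow_succ, ← Nat.succ_eq_add_one, ← hi]
  exact Nat.find_spec hex

variable {p : ℕ}

omit [Finite G] in
theorem Comp.cen_eq (h : Comp p G) {w a : G} (hw : Reg p w) (ha : Reg p a) (ham : a ∈ cen w) :
    cen a = cen w := by
  refine le_antisymm (fun c hc => ?_) fun c hc => mem_cen.2 (h.comm hw ham hc ha.1).symm.eq
  have hwa : w ∈ cen a := mem_cen.2 (mem_cen.1 ham).symm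
  exact mem_cen.2 (h.comm ha hwa hc hw.1).symm.eq

theorem Comp.mem_part (h : Comp p G) {r : ℕ} (hrp : r.Coprime p) {x a : G} (hx : Reg p x) :
    a ∈ part r x ↔ a ∈ cen x ∧ IsEl r a := by
  refine ⟨fun ha => ?_, fun ha => mem_part_of ha.1 ha.2⟩
  refine Subgroup.closure_induction (fun b hb => hb) ⟨one_mem _, IsEl.one⟩ ?_ ?_ ha
  · rintro b c _ _ ⟨hb, ⟨i, hi⟩⟩ ⟨hc, ⟨j, hj⟩⟩
    refine ⟨mul_mem hb hc, ⟨i + j, ?_⟩⟩
    rw [(h.comm hx hb hc (IsEl.coprime ⟨i, hi⟩ hrp)).mul_pow, pow_add, pow_mul, hi,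
      one_pow, one_mul, mul_comm, pow_mul, hj, one_pow]
  · rintro b _ ⟨hb, ⟨i, hi⟩⟩
    exact ⟨inv_mem hb, ⟨i, by rw [inv_pow, hi, inv_one]⟩⟩

theorem Comp.part_isPGroup (h : Comp p G) {r : ℕ} (hrp : r.Coprime p) {x : G} (hx : Reg p x) :
    IsPGroup r (part r x) := by
  rintro ⟨a, ha⟩
  obtain ⟨k, hk⟩ := ((h.mem_part hrp hx).1 ha).2
  exact ⟨k, Subtype.ext (by simpa using hk)⟩

theorem Comp.card_part (h : Comp p G) {r : ℕ} [Fact r.Prime] (hrp : r.Coprime p) {x : G}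
    (hx : Reg p x) : Nat.card (part r x) = r ^ (Nat.card (cen x)).factorization r := by
  obtain ⟨P, hPle, hP, hPc⟩ := TwoRegular.exists_sylow_card (r := r) (cen x)
  refine le_antisymm (TwoRegular.card_le_of_pGroup (h.part_isPGroup hrp hx) (part_le r x)) ?_
  rw [← hPc]
  exact Subgroup.card_le_of_le fun a ha => mem_part_of (hPle ha) (IsEl.of_mem_pGroup hP ha)

/-- The element of order two modulo `C(w)` inverts it modulo the centre. -/
theorem Comp.inverts (h : Comp p G) {w ι v : G} (hw : Reg p w) (hι : InvRep w ι)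
    (hv : v ∈ cen w) (hvp : (orderOf v).Coprime p) : InvertsMod ι v := by
  have hv' : ι * v * ι⁻¹ ∈ cen w := (Subgroup.mem_normalizer_iff.1 hι.mem v).1 hv
  have hc : Commute v (ι * v * ι⁻¹) := h.comm hw hv hv' hvp
  have hord : orderOf (ι * v * ι⁻¹) = orderOf v := by
    simpa using MulEquiv.orderOf_eq (MulAut.conj ι) v
  by_contra hmZ
  have hm : Reg p (v * (ι * v * ι⁻¹)) :=
    ⟨(hvp.mul_left (hord ▸ hvp)).coprime_dvd_left hc.orderOf_mul_dvd_mul_orderOf, hmZ⟩
  refine hι.notMem ((h.cen_eq hw hm (mul_mem hv hv')).le (mem_cen.2 ?_))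
  have h2 : Commute (ι * ι) v := (h.comm hw hv hι.sq hvp).symm
  calc ι * (v * (ι * v * ι⁻¹)) = ι * v * ι⁻¹ * ((ι * ι) * v) * ι⁻¹ := by group
    _ = ι * v * ι⁻¹ * (v * (ι * ι)) * ι⁻¹ := by rw [h2.eq]
    _ = ι * v * ι⁻¹ * v * ι := by group
    _ = v * (ι * v * ι⁻¹) * ι := by rw [← hc.eq]

/-- A `t`-element outside `C` cannot exist for odd `t` in the presence of a second prime. -/
theorem Comp.good_of_invRep (h : Comp p G) {w ι : G} (hw : Reg p w) (hι : InvRep w ι) {t u : ℕ}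
    (ht : t.Prime) (hu : u.Prime) (htp : t.Coprime p) (hup : u.Coprime p) (htu : t ≠ u)
    (ht2 : t ≠ 2) (hta : ∃ a ∈ cen w, IsEl t a ∧ a ∉ Subgroup.center G)
    (hua : ∃ a ∈ cen w, IsEl u a ∧ a ∉ Subgroup.center G) : Good t w := by
  haveI : Fact t.Prime := ⟨ht⟩
  intro g hgN hgt
  obtain ⟨a, haC, hat, haZ⟩ := hta
  obtain ⟨b, hbC, hbu, hbZ⟩ := hua
  have hinv : ∀ κ : G, InvRep w κ → ∀ r : ℕ, r.Coprime p →
      ∀ x ∈ {x : G | x ∈ cen w ∧ IsEl r x}, InvertsMod κ x :=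
    fun κ hκ r hr x hx => h.inverts hw hκ hx.1 (hx.2.coprime hr)
  -- the commutator of `ι` and `g` lies in `C`
  have hf : ι * (g * ι⁻¹ * g⁻¹) ∈ cen w := by
    have hft := mul_mem_fixMod (hinv ι hι t htp) (hinv _ (hι.inv.conj hgN) t htp)
    have hfu := mul_mem_fixMod (hinv ι hι u hup) (hinv _ (hι.inv.conj hgN) u hup)
    refine le_of_forall_pElt (K := Subgroup.zpowers (ι * (g * ι⁻¹ * g⁻¹))) ?_
      (Subgroup.mem_zpowers _)
    intro r hr y hy hyr
    by_cases hrt : r = t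
    · subst hrt
      have hz := Subgroup.zpowers_le.2 hfu hy b ⟨hbC, hbu⟩
      have hc := TwoRegular.commute_of_comm_mem_center hyr hbu
        ((Nat.coprime_primes hr hu).2 htu) hz
      exact (h.cen_eq hw (reg_of_el hbu hbZ hup) hbC).le (mem_cen.2 hc.eq)
    · have hz := Subgroup.zpowers_le.2 hft hy a ⟨haC, hat⟩
      have hc := TwoRegular.commute_of_comm_mem_center hyr hat ((Nat.coprime_primes hr ht).2 hrt) hz
      exact (h.cen_eq hw (reg_of_el hat haZ htp) haC).le (mem_cen.2 hc.eq)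
  -- a `t`-element of `C` fixed by `g` modulo the centre
  set S := part t w with hS
  have hSmem := h.mem_part (a := a) htp hw
  have hnorm : ∀ k ∈ nrm w, ∀ x ∈ S, k * x * k⁻¹ ∈ S := fun k hk x hx =>
    (h.mem_part htp hw).2 ⟨(Subgroup.mem_normalizer_iff.1 hk x).1 ((h.mem_part htp hw).1 hx).1,
      ((h.mem_part htp hw).1 hx).2.conj k⟩
  have hgS : Subgroup.zpowers g ≤ Subgroup.normalizer (S : Set G) := by
    rw [Subgroup.zpowers_le, Subgroup.mem_normalizer_iff]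
    refine fun x => ⟨hnorm g hgN x, fun hx => ?_⟩
    have := hnorm g⁻¹ (inv_mem hgN) _ hx
    simpa [mul_assoc] using this
  have hR : IsPGroup t (Subgroup.zpowers g ⊔ S : Subgroup G) :=
    (isPGroup_zpowers ht hgt).to_sup_of_normal_right' (h.part_isPGroup htp hw) hgS
  have hRN : Subgroup.zpowers g ⊔ S ≤ nrm w :=
    sup_le (Subgroup.zpowers_le.2 hgN) ((part_le t w).trans (cen_le_nrm w))
  obtain ⟨v, hvS, hvZ, hvc⟩ := TwoRegular.exists_central_mod hR le_sup_right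
    (fun k hk x hx => hnorm k (hRN hk) x hx) (L := Subgroup.center G)
    (fun k _ l hl => TwoRegular.conj_mem_center hl) (fun hle => haZ (hle (hSmem.2 ⟨haC, hat⟩)))
  obtain ⟨hvC, hvt⟩ := (h.mem_part htp hw).1 hvS
  have hz := hvc g (le_sup_left (b := S) (Subgroup.mem_zpowers g))
  set z := ⁅g, v⁆ with hzdef
  have hm := h.inverts hw hι hvC (hvt.coprime htp)
  set m := v * (ι * v * ι⁻¹) with hmdef
  -- conjugate `g v g⁻¹ = z v` by `ι`
  have hz2 : z * z = 1 := by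
    set c := ι * (g * ι⁻¹ * g⁻¹) with hcdef
    have e1 : g * v * g⁻¹ = z * v := by rw [hzdef, commutatorElement_def]; group
    have e2 : ι * v * ι⁻¹ = v⁻¹ * m := by rw [hmdef]; group
    have e3 : ι * g * ι⁻¹ = c * g := by rw [hcdef]; group
    have hcv : Commute c v := (h.comm hw hvC hf (hvt.coprime htp)).symm
    have e4 : ι * (z * v) * ι⁻¹ = z * (v⁻¹ * m) := by
      rw [← e2, ← mul_assoc ι z v, Subgroup.mem_center_iff.1 hz ι]; group
    have e5 : g * v⁻¹ * g⁻¹ = v⁻¹ * z⁻¹ := by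
      rw [show g * v⁻¹ * g⁻¹ = (g * v * g⁻¹)⁻¹ by group, e1, mul_inv_rev]
    have e6 : ι * (z * v) * ι⁻¹ = z⁻¹ * (v⁻¹ * m) := by
      calc ι * (z * v) * ι⁻¹ = (ι * g * ι⁻¹) * (ι * v * ι⁻¹) * (ι * g * ι⁻¹)⁻¹ := by
            rw [← e1]; group
        _ = c * g * v⁻¹ * (m * g⁻¹) * c⁻¹ := by rw [e2, e3]; group
        _ = c * g * v⁻¹ * (g⁻¹ * m) * c⁻¹ := by rw [Subgroup.mem_center_iff.1 hm g⁻¹]
        _ = c * (g * v⁻¹ * g⁻¹) * (m * c⁻¹) := by group
        _ = c * (v⁻¹ * z⁻¹) * (c⁻¹ * m) := by rw [e5, Subgroup.mem_center_iff.1 hm c⁻¹]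
        _ = c * v⁻¹ * (z⁻¹ * c⁻¹) * m := by group
        _ = c * v⁻¹ * (c⁻¹ * z⁻¹) * m := by rw [Subgroup.mem_center_iff.1 (inv_mem hz) c⁻¹]
        _ = (c * v⁻¹ * c⁻¹) * z⁻¹ * m := by group
        _ = v⁻¹ * z⁻¹ * m := by rw [hcv.inv_right.eq, mul_inv_cancel_right]
        _ = z⁻¹ * (v⁻¹ * m) := by rw [Subgroup.mem_center_iff.1 (inv_mem hz) v⁻¹, mul_assoc]
    have h3 : z = z⁻¹ := mul_right_cancel (e4.symm.trans e6)
    nth_rewrite 2 [h3]
    exact mul_inv_cancel z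
  have hzt : IsEl t z := by
    obtain ⟨k, hk⟩ := hvt
    refine ⟨k, ?_⟩
    rw [hzdef, ← CfsgLib.PGroup.commutatorElement_pow_right (TwoRegular.commute_comm hz v), hk,
      commutatorElement_one_right]
  have hz1 : z = 1 := orderOf_eq_one_iff.1 (Nat.eq_one_of_dvd_coprimes
    (hzt.coprime ((Nat.coprime_primes ht Nat.prime_two).2 ht2)) dvd_rfl
    (orderOf_dvd_of_pow_eq_one (by rw [pow_two]; exact hz2)))
  exact (h.cen_eq hw (reg_of_el hvt hvZ htp) hvC).le
    (mem_cen.2 (commutatorElement_eq_one_iff_mul_comm.1 hz1))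

/-- A good prime with a second one gives: either two primes are there and `ι`, or no `2`-element
outside. -/
theorem Comp.exists_good (h : Comp p G) {w : G} (hw : Reg p w) (h2p : Nat.Coprime 2 p)
    (h2 : ∃ a ∈ cen w, IsEl 2 a ∧ a ∉ Subgroup.center G)
    (ho : ∃ t : ℕ, t.Prime ∧ t ≠ 2 ∧ t.Coprime p ∧ ∃ a ∈ cen w, IsEl t a ∧ a ∉ Subgroup.center G) :
    ∃ t : ℕ, t.Prime ∧ t.Coprime p ∧ Good t w ∧
      ∃ a ∈ cen w, IsEl t a ∧ a ∉ Subgroup.center G := by
  by_cases hg : Good 2 w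
  · exact ⟨2, Nat.prime_two, h2p, hg, h2⟩
  · unfold Good at hg
    push Not at hg
    obtain ⟨g, hgN, hg2, hgC⟩ := hg
    obtain ⟨ι, hι⟩ := exists_invRep_of_el hgN hg2 hgC
    obtain ⟨t, ht, ht2, htp, hta⟩ := ho
    exact ⟨t, ht, htp, h.good_of_invRep hw hι ht Nat.prime_two htp h2p ht2 ht2 hta h2, hta⟩

/-- A good prime makes the Sylow subgroup of `C` one of `G`. -/
theorem Comp.exists_conj_of_good (h : Comp p G) {w w' : G} (hw : Reg p w) (hw' : Reg p w')
    {t : ℕ} (ht : t.Prime) (htp : t.Coprime p) (hgood : Good t w)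
    (hta : ∃ a ∈ cen w, IsEl t a ∧ a ∉ Subgroup.center G)
    (hta' : ∃ a ∈ cen w', IsEl t a ∧ a ∉ Subgroup.center G) :
    ∃ g : G, cen (g * w' * g⁻¹) = cen w := by
  haveI : Fact t.Prime := ⟨ht⟩
  obtain ⟨a, haC, hat, haZ⟩ := hta
  obtain ⟨v, hvC, hvt, hvZ⟩ := hta'
  obtain ⟨R, hR⟩ := (h.part_isPGroup htp hw).exists_le_sylow
  have hRS : (R : Subgroup G) ≤ part t w := by
    by_contra hlt
    haveI : Group.IsNilpotent (R : Subgroup G) := R.isPGroup'.isNilpotent
    obtain ⟨k, hk, hkS⟩ := SetLike.exists_of_lt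
      (Group.normalizerCondition_of_isNilpotent ((part t w).subgroupOf R)
        (lt_top_iff_ne_top.2 fun e => hlt (Subgroup.subgroupOf_eq_top.1 e)))
    have haS : a ∈ part t w := mem_part_of haC hat
    have hka : (k : G) * a * (k : G)⁻¹ ∈ part t w :=
      (Subgroup.mem_normalizer_iff.1 hk ⟨a, hR haS⟩).1 haS
    have hka' : Reg p ((k : G) * a * (k : G)⁻¹) := (reg_of_el hat haZ htp).conj _
    have hkN : (k : G) ∈ nrm a := mem_nrm_of
      ((h.cen_eq hw hka' (part_le t w hka)).trans (h.cen_eq hw (reg_of_el hat haZ htp) haC).symm)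
    rw [nrm, h.cen_eq hw (reg_of_el hat haZ htp) haC] at hkN
    have hkt : IsEl t (k : G) := IsEl.of_mem_pGroup R.isPGroup' k.2
    exact hkS (mem_part_of (hgood _ hkN hkt) hkt)
  obtain ⟨Q, hQ⟩ := (isPGroup_zpowers ht hvt).exists_le_sylow
  obtain ⟨g, hg⟩ := MulAction.exists_smul_eq G Q R
  have hgv : g * v * g⁻¹ ∈ (R : Subgroup G) := by
    rw [← hg, Sylow.coe_subgroup_smul]
    exact Subgroup.smul_mem_pointwise_smul v (MulAut.conj g) _ (hQ (Subgroup.mem_zpowers v))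
  refine ⟨g, ?_⟩
  rw [← cen_conj_congr (h.cen_eq hw' (reg_of_el hvt hvZ htp) hvC),
    h.cen_eq hw ((reg_of_el hvt hvZ htp).conj g) (part_le t w (hRS hgv))]

end CfsgLib.ThreeSizes
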