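import Cfsg.Agent.ThreeSizes.Star

/-!
Counting the non-central elements in the centralizers of one order, when for two odd primes `q < r`
each of these centralizers misses elements of its normalizer: they cover at most three tenths of `G`.
-/

set_option autoImplicit false

open scoped commutatorElement

namespace CfsgLib.ThreeSizes

open CfsgLib.TwoSizes (cen mem_cen center_le_cen cen_eq_top cen_mul_le le_of_forall_pElt)
open CfsgLib.TwoRegular (Reg IsEl part mem_part_of part_le)

variable {G : Type*} [Group G] [Finite G]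

theorem cen_conj_of_mem_nrm {w n : G} (hn : n ∈ nrm w) : cen (n * w * n⁻¹) = cen w := by
  ext y
  rw [mem_cen_conj, Subgroup.mem_normalizer_iff.1 hn (n⁻¹ * y * n)]
  rw [show n * (n⁻¹ * y * n) * n⁻¹ = y by group]

/-- The conjugates of `C(w)` cover at most `[G : N(C(w))] (|C(w)| - |Z(G)|)` non-central elements. -/
theorem cover_le (w : G) (k : ℕ) (hk : k * Nat.card (cen w) ≤ Nat.card (nrm w)) :
    k * ({a : G | a ∉ Subgroup.center G ∧ ∃ g : G, a ∈ cen (g * w * g⁻¹)}.ncard +
      (nrm w).index * Nat.card (Subgroup.center G)) ≤ Nat.card G := by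
  haveI : Fintype (G ⧸ nrm w) := Fintype.ofFinite _
  have hsub : {a : G | a ∉ Subgroup.center G ∧ ∃ g : G, a ∈ cen (g * w * g⁻¹)} ⊆
      ⋃ q : G ⧸ nrm w, ((cen (q.out * w * q.out⁻¹) : Set G) \ (Subgroup.center G : Set G)) := by
    rintro a ⟨haZ, g, ha⟩
    refine Set.mem_iUnion.2 ⟨(g : G ⧸ nrm w), ?_, haZ⟩
    obtain ⟨n, hn⟩ := QuotientGroup.mk_out_eq_mul (nrm w) g
    rw [hn, show g * (n : G) * w * (g * (n : G))⁻¹ = g * ((n : G) * w * (n : G)⁻¹) * g⁻¹ by group,
      cen_conj_congr (cen_conj_of_mem_nrm n.2)]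
    exact ha
  have h1 := (Set.ncard_le_ncard hsub).trans (Set.ncard_iUnion_le_of_fintype _)
  have h2 : ∀ q : G ⧸ nrm w,
      ((cen (q.out * w * q.out⁻¹) : Set G) \ (Subgroup.center G : Set G)).ncard =
        Nat.card (cen w) - Nat.card (Subgroup.center G) := by
    intro q
    rw [Set.ncard_sdiff (center_le_cen _) (Set.toFinite _), ← Nat.card_coe_set_eq,
      ← Nat.card_coe_set_eq]
    exact congrArg (· - Nat.card (Subgroup.center G)) (card_cen_conj _ w)
  simp only [h2, Finset.sum_const, Finset.card_univ, smul_eq_mul] at h1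
  rw [← Nat.card_eq_fintype_card, ← Subgroup.index] at h1
  have hzc : Nat.card (Subgroup.center G) ≤ Nat.card (cen w) :=
    Subgroup.card_le_of_le (center_le_cen w)
  calc k * (_ + (nrm w).index * Nat.card (Subgroup.center G))
      ≤ k * ((nrm w).index * (Nat.card (cen w) - Nat.card (Subgroup.center G)) +
          (nrm w).index * Nat.card (Subgroup.center G)) :=
        Nat.mul_le_mul_left _ (Nat.add_le_add_right h1 _)
    _ = (nrm w).index * (k * Nat.card (cen w)) := by
        rw [← Nat.mul_add, Nat.sub_add_cancel hzc]; ring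
    _ ≤ (nrm w).index * Nat.card (nrm w) := Nat.mul_le_mul_left _ hk
    _ = Nat.card G := Subgroup.index_mul_card _

/-- A set stable under `R` on the left and `N` on the right is large. -/
theorem card_mul_le_of_stable {q : ℕ} [Fact q.Prime] {R N : Subgroup G} (hR : IsPGroup q R) (g₀ : G)
    (T : Finset G) (hT : ∀ ρ ∈ R, ∀ n ∈ N, ρ * g₀ * n ∈ T) :
    Nat.card R * Nat.card N ≤ T.card * q ^ (Nat.card N).factorization q := by
  classical
  haveI := Fintype.ofFinite G
  set K := R.map (MulAut.conj g₀⁻¹).toMonoidHom ⊓ N with hK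
  have hKc : Nat.card K ≤ q ^ (Nat.card N).factorization q :=
    TwoRegular.card_le_of_pGroup ((hR.map _).to_le inf_le_left) inf_le_right
  let f : R × N → G := fun x => (x.1 : G) * g₀ * (x.2 : G)
  have hfib : ∀ t ∈ Finset.univ.image f, (Finset.univ.filter fun x => f x = t).card ≤
      q ^ (Nat.card N).factorization q := by
    intro t ht
    obtain ⟨⟨ρ₁, n₁⟩, -, rfl⟩ := Finset.mem_image.1 ht
    refine le_trans ?_ hKc
    rw [Nat.card_eq_fintype_card, Fintype.card, ← Finset.card_map ⟨Subtype.val, Subtype.val_injective⟩]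
    refine Finset.card_le_card_of_injOn
      (fun x => g₀⁻¹ * ((ρ₁ : G)⁻¹ * (x.1 : G)) * g₀) ?_ ?_
    · rintro ⟨ρ, n⟩ hx
      simp only [Finset.coe_filter, Finset.mem_univ, true_and, Set.mem_ofPred_eq, f] at hx
      simp only [Finset.coe_map, Function.Embedding.coeFn_mk, Set.mem_image, Finset.mem_coe,
        Finset.mem_univ, true_and, Subtype.exists, exists_prop, exists_eq_right]
      refine ⟨⟨(ρ₁ : G)⁻¹ * (ρ : G), R.mul_mem (R.inv_mem ρ₁.2) ρ.2, by simp [mul_assoc]⟩, ?_⟩
      have : g₀⁻¹ * ((ρ₁ : G)⁻¹ * (ρ : G)) * g₀ = (n₁ : G) * (n : G)⁻¹ := by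
        calc g₀⁻¹ * ((ρ₁ : G)⁻¹ * (ρ : G)) * g₀
            = g₀⁻¹ * (ρ₁ : G)⁻¹ * ((ρ : G) * g₀ * (n : G)) * (n : G)⁻¹ := by group
          _ = g₀⁻¹ * (ρ₁ : G)⁻¹ * ((ρ₁ : G) * g₀ * (n₁ : G)) * (n : G)⁻¹ := by rw [hx]
          _ = _ := by group
      rw [this]
      exact N.mul_mem n₁.2 (N.inv_mem n.2)
    · rintro ⟨ρ, n⟩ hx ⟨ρ', n'⟩ hx' e
      simp only [Finset.coe_filter, Finset.mem_univ, true_and, Set.mem_ofPred_eq, f] at hx hx'
      have e1 : (ρ : G) = (ρ' : G) := mul_left_cancel (mul_left_cancel (mul_right_cancel e))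
      obtain rfl : ρ = ρ' := Subtype.ext e1
      exact Prod.ext rfl (Subtype.ext (mul_left_cancel (hx.trans hx'.symm)))
  have h1 := Finset.card_le_mul_card_image Finset.univ _ hfib
  rw [Finset.card_univ, Fintype.card_prod, ← Nat.card_eq_fintype_card,
    ← Nat.card_eq_fintype_card] at h1
  refine h1.trans ?_
  rw [Nat.mul_comm]
  refine Nat.mul_le_mul_right _ (Finset.card_le_card fun t ht => ?_)
  obtain ⟨⟨ρ, n⟩, -, rfl⟩ := Finset.mem_image.1 ht
  exact hT ρ ρ.2 n n.2

/-- A prime of an element of the normalizer outside `C(w)` divides `[N(C(w)) : C(w)]`. -/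
theorem dvd_relIndex_of_el {t : ℕ} (ht : t.Prime) {w g : G} (hg : g ∈ nrm w) (hgt : IsEl t g)
    (hgC : g ∉ cen w) : t ∣ (cen w).relIndex (nrm w) := by
  haveI : ((cen w).subgroupOf (nrm w)).Normal := Subgroup.normal_in_normalizer
  by_contra hnd
  refine hgC (Subgroup.mem_subgroupOf.1 (mem_of_coprime_index (a := (⟨g, hg⟩ : nrm w)) ?_))
  obtain ⟨j, hj⟩ := isEl_orderOf ht hgt
  rw [← Subgroup.orderOf_coe, hj]
  exact ((ht.coprime_iff_not_dvd).2 hnd).pow_left _

/-- **Centralizers with two bad odd primes cover little.** -/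
theorem count_bad (h : Comp 1 G) {c q r : ℕ} (hq : q.Prime) (hr : r.Prime) (hq3 : 3 ≤ q)
    (hr5 : 5 ≤ r) (hqr : q ≠ r)
    (hqel : ∀ w : G, w ∉ Subgroup.center G → Nat.card (cen w) = c →
      ∃ a ∈ cen w, IsEl q a ∧ a ∉ Subgroup.center G)
    (hbad : ∀ w : G, w ∉ Subgroup.center G → Nat.card (cen w) = c → ¬ Good r w) :
    10 * {a : G | a ∉ Subgroup.center G ∧ Nat.card (cen a) = c}.ncard ≤ 3 * Nat.card G := by
  classical
  haveI := Fintype.ofFinite G
  haveI := Fintype.ofFinite (Subgroup G)
  haveI : Fact q.Prime := ⟨hq⟩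
  have hreg : ∀ w : G, w ∉ Subgroup.center G → Reg 1 w := fun w hw => ⟨Nat.coprime_one_right _, hw⟩
  set Ds := Finset.univ.filter fun D : Subgroup G =>
    ∃ w : G, w ∉ Subgroup.center G ∧ cen w = D ∧ Nat.card (cen w) = c with hDs
  have hDmem : ∀ D ∈ Ds, ∃ w : G, w ∉ Subgroup.center G ∧ cen w = D ∧ Nat.card (cen w) = c :=
    fun D hD => (Finset.mem_filter.1 hD).2
  obtain ⟨R⟩ : Nonempty (Sylow q G) := inferInstance
  let Q : Subgroup G → Subgroup G := fun D => Subgroup.closure {a | a ∈ D ∧ IsEl q a}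
  let P : Subgroup G → G → Prop := fun D g => ∀ a ∈ Q D, g * a * g⁻¹ ∈ (R : Subgroup G)
  set S := q ^ c.factorization q with hS
  set z := q ^ (Nat.card (Subgroup.center G)).factorization q with hz
  have hQcard : ∀ D ∈ Ds, Nat.card (Q D) = S := by
    intro D hD
    obtain ⟨w, hw, rfl, hc⟩ := hDmem D hD
    rw [hS, ← hc]
    exact h.card_part (Nat.coprime_one_right _) (hreg w hw)
  -- each conjugate of the Sylow subgroup contains few of them
  have hk : ∀ g : G, 2 * S * (Ds.filter fun D => P D g).card ≤ 3 * Nat.card R := by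
    intro g
    set F : Subgroup G → Finset G := fun D =>
      Finset.univ.filter fun a => a ∈ Q D ∧ a ∉ Subgroup.center G with hF
    have hdisj : ((Ds.filter fun D => P D g : Finset _) : Set (Subgroup G)).PairwiseDisjoint F := by
      intro D hD D' hD' hne
      rw [Function.onFun, Finset.disjoint_left]
      intro a ha ha'
      obtain ⟨w, hw, rfl, -⟩ := hDmem D (Finset.mem_filter.1 (Finset.mem_coe.1 hD)).1
      obtain ⟨w', hw', rfl, -⟩ := hDmem D' (Finset.mem_filter.1 (Finset.mem_coe.1 hD')).1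
      simp only [hF, Finset.mem_filter, Finset.mem_univ, true_and] at ha ha'
      exact hne ((h.cen_eq (hreg w hw) (hreg a ha.2) (part_le q w ha.1)).symm.trans
        (h.cen_eq (hreg w' hw') (hreg a ha.2) (part_le q w' ha'.1)))
    have h1 : ((Ds.filter fun D => P D g).biUnion F).card ≤ Nat.card R := by
      rw [Nat.card_eq_fintype_card, Fintype.card,
        ← Finset.card_map ⟨Subtype.val, Subtype.val_injective⟩]
      refine Finset.card_le_card_of_injOn (fun a => g * a * g⁻¹) ?_
        ((mul_left_injective g⁻¹).comp (mul_right_injective g)).injOn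
      intro a ha
      obtain ⟨D, hD, haD⟩ := Finset.mem_biUnion.1 ha
      simp only [hF, Finset.mem_filter, Finset.mem_univ, true_and] at haD
      exact Finset.mem_map.2
        ⟨⟨_, (Finset.mem_filter.1 hD).2 a haD.1⟩, Finset.mem_univ _, rfl⟩
    rw [Finset.card_biUnion hdisj] at h1
    have h2 : ∀ D ∈ Ds.filter fun D => P D g, 2 * S ≤ 3 * (F D).card := by
      intro D hD
      obtain ⟨w, hw, rfl, hc⟩ := hDmem D (Finset.mem_filter.1 hD).1
      obtain ⟨a, haC, haq, haZ⟩ := hqel w hw hc
      have hlt := (el_iff hq (center_le_cen w)).1 ⟨a, haC, haq, haZ⟩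
      rw [hc] at hlt
      have hqz : q * z ≤ S := by
        rw [hS, hz, ← pow_succ']
        exact Nat.pow_le_pow_right hq.pos hlt
      have hQc := hQcard _ (Finset.mem_filter.1 hD).1
      have hsplit : Nat.card (Q (cen w)) ≤ (F (cen w)).card +
          Nat.card (Q (cen w) ⊓ Subgroup.center G : Subgroup G) := by
        have hu : (Q (cen w) : Set G) ⊆ ↑(F (cen w)) ∪
            ((Q (cen w) ⊓ Subgroup.center G : Subgroup G) : Set G) := by
          intro a ha
          by_cases haz : a ∈ Subgroup.center G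
          · exact Or.inr ⟨ha, haz⟩
          · exact Or.inl (by simp [hF, haz, SetLike.mem_coe.1 ha])
        have := (Set.ncard_le_ncard hu).trans (Set.ncard_union_le _ _)
        rw [Set.ncard_coe_finset, ← Nat.card_coe_set_eq, ← Nat.card_coe_set_eq] at this
        exact this
      have hzle : Nat.card (Q (cen w) ⊓ Subgroup.center G : Subgroup G) ≤ z :=
        TwoRegular.card_le_of_pGroup
          ((h.part_isPGroup (Nat.coprime_one_right _) (hreg w hw)).to_le inf_le_left) inf_le_right
      rw [hQc] at hsplit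
      have : 3 * z ≤ S := (Nat.mul_le_mul_right _ hq3).trans hqz
      omega
    calc 2 * S * (Ds.filter fun D => P D g).card
        = ∑ _D ∈ Ds.filter (fun D => P D g), 2 * S := by rw [Finset.sum_const, smul_eq_mul]; ring
      _ ≤ ∑ D ∈ Ds.filter (fun D => P D g), 3 * (F D).card := Finset.sum_le_sum h2
      _ ≤ 3 * Nat.card R := by rw [← Finset.mul_sum]; exact Nat.mul_le_mul_left _ h1
  -- each of them lies in many
  have hg : ∀ D ∈ Ds, Nat.card R * c * r ≤ (Finset.univ.filter fun g => P D g).card * S := by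
    intro D hD
    obtain ⟨w, hw, rfl, hc⟩ := hDmem D hD
    have hQp := h.part_isPGroup (Nat.coprime_one_right q) (hreg w hw)
    obtain ⟨R₁, hR₁⟩ := hQp.exists_le_sylow
    obtain ⟨g₀, hg₀⟩ := MulAction.exists_smul_eq G R₁ R
    have hP₀ : P (cen w) g₀ := fun a ha => by
      rw [← hg₀, Sylow.coe_subgroup_smul]
      exact Subgroup.smul_mem_pointwise_smul a (MulAut.conj g₀) _ (hR₁ ha)
    have hstab := card_mul_le_of_stable R.isPGroup' g₀
      (Finset.univ.filter fun g => P (cen w) g) (N := nrm w) (fun ρ hρ n hn => by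
      refine Finset.mem_filter.2 ⟨Finset.mem_univ _, fun a ha => ?_⟩
      obtain ⟨haC, haq⟩ := (h.mem_part (Nat.coprime_one_right _) (hreg w hw)).1 ha
      have := hP₀ (n * a * n⁻¹)
        (mem_part_of ((Subgroup.mem_normalizer_iff.1 hn a).1 haC) (haq.conj n))
      rw [show ρ * g₀ * n * a * (ρ * g₀ * n)⁻¹ = ρ * (g₀ * (n * a * n⁻¹) * g₀⁻¹) * ρ⁻¹ by group]
      exact mul_mem (mul_mem hρ this) (inv_mem hρ))
    set e := (cen w).relIndex (nrm w) with he
    have hN : Nat.card (nrm w) = c * e := by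
      rw [← hc, he, ← Subgroup.relIndex_bot_left, ← Subgroup.relIndex_bot_left,
        Subgroup.relIndex_mul_relIndex _ _ _ bot_le (cen_le_nrm w)]
    have he0 : e ≠ 0 := fun h0 => Nat.card_pos.ne' (by rw [hN, h0, mul_zero] : Nat.card (nrm w) = 0)
    have hc0 : c ≠ 0 := hc ▸ Nat.card_pos.ne'
    have hre : r ∣ e := by
      have := hbad w hw hc
      unfold Good at this
      push Not at this
      obtain ⟨g, hgN, hgr, hgC⟩ := this
      exact dvd_relIndex_of_el hr hgN hgr hgC
    have hqe : r * q ^ e.factorization q ≤ e := Nat.le_of_dvd (Nat.pos_of_ne_zero he0)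
      ((((Nat.coprime_primes hr hq).2 hqr.symm).pow_right _).mul_dvd_of_dvd_of_dvd hre
        (Nat.ordProj_dvd e q))
    rw [hN, Nat.factorization_mul hc0 he0] at hstab
    simp only [Finsupp.coe_add, Pi.add_apply, pow_add, ← hS] at hstab
    have hpos : 0 < q ^ e.factorization q := pow_pos hq.pos _
    refine Nat.le_of_mul_le_mul_right ?_ hpos
    calc Nat.card R * c * r * q ^ e.factorization q = Nat.card R * c * (r * q ^ e.factorization q) := by
          ring
      _ ≤ Nat.card R * c * e := Nat.mul_le_mul_left _ hqe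
      _ = Nat.card R * (c * e) := by ring
      _ ≤ (Finset.univ.filter fun g => P (cen w) g).card * (S * q ^ e.factorization q) := hstab
      _ = _ := by ring
  have hdc := Finset.sum_card_bipartiteAbove_eq_sum_card_bipartiteBelow (s := Ds)
    (t := (Finset.univ : Finset G)) (r := P)
  have hA : 2 * (Ds.card * (Nat.card R * c * r)) ≤ 3 * Nat.card G * Nat.card R := by
    calc 2 * (Ds.card * (Nat.card R * c * r))
        ≤ 2 * ∑ D ∈ Ds, (Finset.univ.filter fun g => P D g).card * S := by
          refine Nat.mul_le_mul_left _ ?_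
          rw [← smul_eq_mul, ← Finset.sum_const]
          exact Finset.sum_le_sum hg
      _ = ∑ g : G, 2 * S * (Ds.filter fun D => P D g).card := by
          rw [← Finset.sum_mul, ← Finset.mul_sum]
          have := hdc
          simp only [Finset.bipartiteAbove, Finset.bipartiteBelow] at this
          rw [this]; ring
      _ ≤ ∑ _g : G, 3 * Nat.card R := Finset.sum_le_sum fun g _ => hk g
      _ = 3 * Nat.card G * Nat.card R := by
          simp only [Finset.sum_const, Finset.card_univ, smul_eq_mul, Nat.card_eq_fintype_card]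
          ring
  have hB : 10 * (Ds.card * c) ≤ 3 * Nat.card G := by
    refine Nat.le_of_mul_le_mul_right ?_ (Nat.card_pos : 0 < Nat.card R)
    calc 10 * (Ds.card * c) * Nat.card R ≤ 2 * r * (Ds.card * c) * Nat.card R := by
          gcongr; omega
      _ = 2 * (Ds.card * (Nat.card R * c * r)) := by ring
      _ ≤ _ := hA
  refine le_trans (Nat.mul_le_mul_left _ ?_) hB
  calc {a : G | a ∉ Subgroup.center G ∧ Nat.card (cen a) = c}.ncard
      ≤ (Ds.biUnion fun D => Finset.univ.filter fun a => a ∈ D).card := by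
        rw [← Set.ncard_coe_finset]
        refine Set.ncard_le_ncard fun a ha => ?_
        exact Finset.mem_coe.2 (Finset.mem_biUnion.2 ⟨cen a,
          Finset.mem_filter.2 ⟨Finset.mem_univ _, a, ha.1, rfl, ha.2⟩,
          Finset.mem_filter.2 ⟨Finset.mem_univ _, mem_cen.2 rfl⟩⟩)
    _ ≤ Ds.card * c := by
        refine Finset.card_biUnion_le_card_mul _ _ _ fun D hD => le_of_eq ?_
        obtain ⟨w, hw, rfl, hc⟩ := hDmem D hD
        rw [← hc, Nat.card_eq_fintype_card, Fintype.card_subtype]

end CfsgLib.ThreeSizes
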